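/-
Coprime action lemmas used for the solvable signalizer functor theorem.
-/
import Cfsg.Agent.Lib.MS.Pre1
import Cfsg.Agent.Lib.BG.Sec3
import Cfsg.Agent.Lib.Comp.Sig
import Cfsg.Agent.Lib.Transfer.Stab

set_option autoImplicit false
set_option linter.unusedSectionVars false
set_option linter.unusedVariables false
set_option linter.style.haveILetI false
set_option linter.unusedSimpArgs false

namespace Cfsg.Agent.Sg

open Subgroup Cfsg.Agent.Transfer Cfsg.Agent.MS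
open scoped commutatorElement

universe u
variable {G : Type u} [Group G] [Finite G]
variable {A B D E H K M N P Q R S T U V W X Y Z : Subgroup G} {p q r s t w : ℕ}

theorem pxq [Fact s.Prime] (hV : IsPGroup s V) (hE : IsPGroup s E) (hD : IsPi {s}ᶜ D)
    (h1 : E ≤ NN V) (h2 : D ≤ NN V) (h3 : E ≤ CC D) (h : V ⊓ CC E ≤ CC D) : V ≤ CC D :=
  cc_symm (Solv.thompson_pxq hE (pi_compl_iff_coprime.1 hD) hV h3 h1 h2 h)

theorem cc_of_coprime (h1 : A ≤ NN B) (h2 : B ≤ NN A) (h : (#A).Coprime #B) : A ≤ CC B :=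
  cc_of_inf_eq_bot h1 h2 (inf_of_coprime h)

theorem cc_of_le (h0 : A ≤ V) (h1 : A ≤ NN X) (h2 : X ≤ NN V) (h : V ⊓ X = ⊥) : A ≤ CC X :=
  comm_eq_bot.1 (eq_bot_of_le h ((commutator_mono h0 le_rfl).trans (comm_le_left h2))
    (comm_le_right h1))

theorem cc_of_le2 (h0 : A ≤ V) (h0' : B ≤ X) (h1 : A ≤ NN X) (h2 : B ≤ NN V) (h : V ⊓ X = ⊥) :
    A ≤ CC B :=
  comm_eq_bot.1 (eq_bot_of_le h ((commutator_mono h0 le_rfl).trans (comm_le_left h2))
    ((commutator_mono le_rfl h0').trans (comm_le_right h1)))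

theorem gl_fpf [Fact w.Prime] (hV : IsPGroup w V) (hs : Group.IsSolvable K) (hn : R ≤ NN K)
    (hK : K ≤ NN V) (hR : R ≤ NN V) (hr : (#R).Prime) (hc : (#R).Coprime #K)
    (hKp : IsPi {w}ᶜ K) (hRp : IsPi {w}ᶜ R) (ho : Odd #K ∨ IsMulCommutative K)
    (h0 : V ⊓ CC R = ⊥) : ⁅K, R⁆ ≤ CC V := by
  have hq : K ⊔ R ⊔ V ≤ NN (K ⊓ CC V) := sup_le (nn_inf (sup_le (le_nn _) hn)
    (nn_cc (sup_le hK hR))) (nn_of_cc (cc_symm inf_le_right))
  have h1 : K ≤ K ⊔ R ⊔ V := le_sup_left.trans le_sup_left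
  have h2 : R ≤ K ⊔ R ⊔ V := le_sup_right.trans le_sup_left
  obtain ⟨Q, _, _, f, q⟩ := exists_qm (inf_le_left.trans h1) hq
  have h3 : (K ⊓ CC V) ⊓ V = ⊥ := by
    rw [inf_comm]; exact pg_inf hV (hKp.mono inf_le_left) (by simp)
  have h4 : #(im f R) = #R := q.card_im_of_disj h2
    (inf_of_coprime (coprime_mono hc.symm inf_le_left le_rfl))
  refine le_trans ?_ (inf_le_right (a := K))
  rw [commutator_comm, ← q.cc_iff h2 h1]
  by_contra h
  have h5 : im f K ⊓ CC (im f V) = ⊥ := by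
    rw [eq_bot_iff]
    rintro _ ⟨⟨k, hk, rfl⟩, h⟩
    refine (q.eq_one_iff k.2).2 ⟨hk, ?_⟩
    have h3' : zpowers (k : G) ≤ K := zpowers_le.2 hk
    have h4' := zpowers_le.2 h
    rw [← im_zpowers k.2, q.cc_iff (h3'.trans h1) le_sup_right] at h4'
    exact comm_eq_bot.1 (eq_bot_of_le h3 h4' (comm_le_right (h3'.trans hK))) (mem_zpowers _)
  have h6 : im f V ⊓ CC (im f R) = ⊥ := by
    have hN : K ⊓ CC V ≤ NN V := inf_le_left.trans hK
    have := q.im_inf_cc (K := (K ⊓ CC V) ⊔ V) (A := R) (sup_le q.le le_sup_right) h2 le_sup_left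
      (nn_sup (h2.trans hq) hR) (coprime_mono hc le_rfl inf_le_left) (sol_mono hs inf_le_left)
    rw [q.im_sup_N le_sup_right] at this
    rw [← this, q.im_eq_bot (inf_le_left.trans (sup_le q.le le_sup_right))]
    rintro x ⟨hx, hxR⟩
    obtain ⟨a, ha, b, hb, rfl⟩ := (mem_sup_r hN).1 hx
    obtain ⟨a', ha', b', hb', e⟩ := Solv.coprime_fixed_mul (h2.trans hq) hR
      (by rw [h3, card_bot]; exact Nat.coprime_one_right _) (.inr (by rw [h3]; infer_instance)) ha hb hxR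
    rw [h0, mem_bot] at hb'
    rw [e, hb', mul_one]; exact ha'.1
  obtain ⟨h7, d, h8, h9, h10⟩ := BG.exists_fermat (im_pg hV) (im_sol hs h1)
    (im_nn h2 h1 hn) (im_nn h1 le_sup_right hK) (im_nn h2 le_sup_right hR) (h4 ▸ hr)
    (im_coprime hc h2 h1) (pi_compl_iff_coprime.1 (hKp.im h1)) (pi_compl_iff_coprime.1 (hRp.im h2))
    h5 h6 h
  rcases ho with ho | ho
  · rw [h4] at h9
    have := (hr.eq_two_or_odd').resolve_right
      (Nat.not_odd_iff_even.2 (h9 ▸ (Odd.of_dvd_nat (im_odd ho h1) h10).add_one))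
    omega
  · exact h7 (im_ab ho h1)

/-- the operator `R` of prime order has fixed points not centralized by `[K, R]` -/
theorem gl [Fact w.Prime] (hV : IsPGroup w V) (hs : Group.IsSolvable K) (hn : R ≤ NN K)
    (hK : K ≤ NN V) (hR : R ≤ NN V) (hr : (#R).Prime) (hc : (#R).Coprime #K)
    (hKp : IsPi {w}ᶜ K) (hRp : IsPi {w}ᶜ R) (ho : Odd #K ∨ IsMulCommutative K)
    (h0 : V ⊓ CC R ≤ CC ⁅K, R⁆) : ⁅K, R⁆ ≤ CC V := by
  by_contra h
  have hKR : ⁅K, R⁆ ≤ K := comm_le_left hn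
  obtain ⟨L, h1, h2, h3, h4⟩ := BG.exists_min_not_le_Ct (X := ⁅K, R⁆ ⊔ R)
    (sup_le (hKR.trans hK) hR) h
  have hL : IsPGroup w L := hV.to_le h1
  have hc' : (#(⁅K, R⁆ : Subgroup G)).Coprime #L := (pg_coprime hL (hKp.mono hKR) (by simp)).symm
  obtain ⟨h5, h6, h7⟩ := BG.min_not_le_Ct (sol_of_pg hL) h2 le_sup_left
    (sup_le (le_nn _) (right_nn_comm _ _)) hc' h3 h4
  set X := ⁅K, R⁆ with hX
  have a1 : X ≤ NN L := le_sup_left.trans h2
  have a2 : R ≤ NN L := le_sup_right.trans h2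
  have a3 : R ≤ NN X := right_nn_comm _ _
  have hq : X ⊔ R ⊔ L ≤ NN (L ⊓ CC X) :=
    sup_le (sup_le (by nrm) (by nrm)) (nn_of_cc (cc_symm h7))
  have b1 : X ≤ X ⊔ R ⊔ L := le_sup_left.trans le_sup_left
  have b2 : R ≤ X ⊔ R ⊔ L := le_sup_right.trans le_sup_left
  obtain ⟨Q, _, _, f, q⟩ := exists_qm (inf_le_left.trans le_sup_right) hq
  have hcR : (#R).Coprime #L := (pg_coprime hL hRp (by simp)).symm
  have h8 : #(im f R) = #R := q.card_im_of_disj b2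
    (inf_of_coprime (coprime_mono hcR.symm inf_le_left le_rfl))
  have h9 : ⁅X, R⁆ = X := cop_comm_comm hn hc hs
  have := gl_fpf (im_pg (f := f) hL) (im_sol (sol_mono hs hKR) b1) (im_nn b2 b1 a3)
    (im_nn b1 le_sup_right a1) (im_nn b2 le_sup_right a2) (h8 ▸ hr)
    (im_coprime (coprime_mono hc le_rfl hKR) b2 b1) ((hKp.mono hKR).im b1) (hRp.im b2)
    (ho.imp (fun h => im_odd (odd_mono h hKR) b1) (fun h => im_ab (ab_mono h hKR) b1))
    (by rw [← q.im_inf_cc le_sup_right b2 inf_le_left a2 (coprime_mono hcR le_rfl inf_le_left)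
      (sol_mono (sol_of_pg hL) inf_le_left), q.im_eq_bot (inf_le_left.trans le_sup_right)]
        exact le_inf inf_le_left ((inf_le_inf_right _ h1).trans h0))
  rw [← im_comm b1 b2, h9, q.cc_iff b1 le_sup_right, commutator_comm, h5] at this
  exact h3 (cc_symm (this.trans inf_le_right))

/-- Goldschmidt's lemma. -/
theorem gold [Fact s.Prime] (hH : Group.IsSolvable H) (hR : R ≤ NN H) (hr : (#R).Prime)
    (hc : (#R).Coprime #H) (hX : IsPGroup s X) (h1 : X ≤ H) (h2 : R ≤ NN X) (h3 : ⁅X, R⁆ = X)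
    (h4 : H ⊓ CC R ≤ NN X) (ho : s ≠ 2 ∨ IsMulCommutative X) : X ≤ O {s} H := by
  obtain ⟨Q, _, _, f, q⟩ := exists_qm (N := O {s} H) (M := H ⊔ R) ((O_le _ _).trans le_sup_left)
    (sup_le (by nrm) (by nrm))
  have a1 : H ≤ H ⊔ R := le_sup_left
  have a2 : R ≤ H ⊔ R := le_sup_right
  have a3 := h1.trans a1
  have h0 : O {s} (im f H) = ⊥ := by rw [← q.im_O a1 (O_le _ _) (O_pi _ _), q.im_N]
  have h5 : #(im f R) = #R := q.card_im_of_disj a2
    (inf_of_coprime (coprime_mono hc.symm (O_le _ _) le_rfl))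
  have h6 : im f H ⊓ CC (im f R) ≤ NN (im f X) := by
    rw [← q.im_inf_cc a1 a2 (O_le _ _) hR (coprime_mono hc le_rfl (O_le _ _))
      (sol_mono hH (O_le _ _))]
    exact im_nn (inf_le_left.trans a1) a3 h4
  have h7 : ⁅im f X, im f R⁆ = im f X := by rw [← im_comm a3 a2, h3]
  have hX' : IsPGroup s (im f X) := im_pg hX
  have hR' := im_nn (f := f) a2 a1 hR
  have hc' := im_coprime (f := f) hc a2 a1
  have h8 : F (im f H) ≤ CC (im f X) := F_le_of_O fun w hw hd => by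
    haveI := Fact.mk hw
    by_cases e : w = s
    · subst e; rw [h0]; exact bot_le
    have b1 : im f X ≤ NN (O {w} (im f H)) := nn_O (nn_of_le (im_mono h1))
    refine cc_symm (h7 ▸ gl (O_pg _) (sol_of_pg hX') (im_nn a2 a3 h2) b1 (nn_O hR') (h5 ▸ hr)
      (coprime_mono hc' le_rfl (im_mono h1)) (pi_of_pg hX' (Ne.symm e))
      (pi_compl_iff.2 fun h => hw.one_lt.ne' (Nat.eq_one_of_dvd_coprimes hc' h
        (hd.trans (card_dvd (F_le _)))))
      (ho.imp (fun h => ?_) (fun h => im_ab h a3)) ?_)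
    · obtain ⟨k, hk⟩ := IsPGroup.iff_card.1 hX'
      rw [hk]; exact ((Fact.out : s.Prime).odd_of_ne_two h).pow
    · rw [h7]
      exact cc_of_le inf_le_left ((inf_le_inf_right _ (O_le _ _)).trans h6) b1
        (inf_of_coprime (pg_coprime_pg (O_pg _) hX' e))
  have h9 : im f X ≤ F (im f H) := (le_inf (im_mono h1) (cc_symm h8)).trans (cc_F_le (im_sol hH a1))
  have h10 := nil_le_O (F_nil _) h9 (pi1_of_pg hX')
  rw [O1_F, h0, le_bot_iff, q.im_eq_bot a3] at h10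
  exact h10

/-- an operator centralizing a Sylow `p`-subgroup of a solvable group -/
theorem comm_le_O_of_syl [Fact p.Prime] (hs : Group.IsSolvable K) (hA : A ≤ NN K)
    (hc : (#A).Coprime #K) (hP : IsSyl p P K) (h : P ≤ CC A) : ⁅K, A⁆ ≤ O {p}ᶜ K := by
  obtain ⟨Q, _, _, f, q⟩ := exists_qm (N := O {p}ᶜ K) (M := K ⊔ A) ((O_le _ _).trans le_sup_left)
    (sup_le (by nrm) (by nrm))
  have a1 : K ≤ K ⊔ A := le_sup_left
  have a2 : A ≤ K ⊔ A := le_sup_right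
  have h0 : O {p}ᶜ (im f K) = ⊥ := by rw [← q.im_O a1 (O_le _ _) (O_pi _ _), q.im_N]
  rw [← q.cc_iff a1 a2]
  refine cc_symm (cop_cent_F (im_sol hs a1) (im_nn a2 a1 hA) (im_coprime hc a2 a1) ?_)
  rw [F_eq_O h0]
  exact cc_symm ((O_le_syl (im_syl hP a1)).trans (im_cc (hP.le.trans a1) a2 h))

/-- generation of commutators under a noncyclic operator group -/
theorem comm_gen (hs : Group.IsSolvable Y) (hB : IsMulCommutative B) (hnc : ¬ IsCyclic B)
    (hBY : B ≤ NN Y) (hZY : Z ≤ NN Y) (hc : (#B).Coprime #Y) (hc' : (#Z).Coprime #Y)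
    (hZB : Z ≤ CC B) (h : ∀ b ∈ B, b ≠ 1 → ⁅Y ⊓ C1 b, Z⁆ ≤ W) : ⁅Y, Z⁆ ≤ W := by
  set W0 : Subgroup G := ⨆ b : {b : G // b ∈ B ∧ b ≠ 1}, ⁅Y ⊓ C1 (b : G), Z⁆ with hW
  have w1 : W0 ≤ W := iSup_le fun b => h b b.2.1 b.2.2
  have w2 : ∀ b ∈ B, b ≠ 1 → ⁅Y ⊓ C1 b, Z⁆ ≤ W0 := fun b h1 h2 =>
    le_iSup (fun b : {b : G // b ∈ B ∧ b ≠ 1} => ⁅Y ⊓ C1 (b : G), Z⁆) ⟨b, h1, h2⟩
  have w3 : Z ≤ NN W0 := Comp.le_normalizer_iSup fun b => right_nn_comm _ _
  refine le_trans ?_ w1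
  have key : ∀ U, Y ⊔ B ⊔ Z ≤ NN U → ⊥ ≤ U → U ≤ Y → ⁅U, Z⁆ ≤ W0 := by
    refine BG.chief_induction (P := fun U => ⁅U, Z⁆ ≤ W0) nn_bot (by simp) fun U V hUV _ hU hV => ?_
    have hUs := sol_mono hs hU
    have u1 : U ≤ NN V := hU.trans ((le_sup_left.trans le_sup_left).trans hUV.nV)
    have u2 : Z ≤ NN U := le_sup_right.trans hUV.nU
    have u3 : B ≤ NN U := (le_sup_right.trans le_sup_left).trans hUV.nU
    have u4 : Z ≤ NN V := le_sup_right.trans hUV.nV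
    have u5 := hUV.commutator_le u1 hUs
    have u6 : U ≤ ((U ⊓ W0) ⊔ V) ⊔ (U ⊓ CC Z) :=
      cop_gen hB hnc u3 (coprime_mono hc le_rfl hU) fun b h1 h2 => by
        have n1 : Z ≤ NN (U ⊓ C1 b) := nn_inf u2 (nn_C1 (hZB.trans (cc_le_C1 h1)))
        rw [← cop_comm_sup n1 (coprime_mono hc' le_rfl (inf_le_left.trans hU))
          (sol_mono hUs inf_le_left)]
        exact sup_le_sup ((le_inf ((comm_le_left n1).trans inf_le_left)
          ((commutator_mono (inf_le_inf_right _ hU) le_rfl).trans (w2 b h1 h2))).trans le_sup_left)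
          (inf_le_inf_right _ inf_le_left)
    refine BG.commutator_le_of_isProd w3 fun x hx => ?_
    obtain ⟨y, hy, c, hc1, rfl⟩ := (mem_sup_l (inf_le_left.trans (nn_of_der_le (u5.trans le_sup_right)
      (sup_le inf_le_left hUV.lt.le)))).1 (u6 hx)
    obtain ⟨a, ha, v, hv, rfl⟩ := (mem_sup_r (inf_le_left.trans u1)).1 hy
    rw [← cop_comm_sup u4 (coprime_mono hc' le_rfl (hUV.lt.le.trans hU))
      (sol_mono hUs hUV.lt.le)] at hv
    obtain ⟨a', ha', c', hc2, rfl⟩ := (mem_sup_l (inf_le_left.trans (left_nn_comm _ _))).1 hv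
    exact ⟨a * a', mul_mem ha.2 (hV ha'), c' * c, mul_mem hc2.2 hc1.2, by group⟩
  exact key Y (sup_le (sup_le (le_nn _) hBY) hZY) bot_le le_rfl

end Cfsg.Agent.Sg
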