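/-
A minimal incomplete solvable signalizer functor of rank three.
-/
import Cfsg.Agent.Lib.SSF.Act

set_option autoImplicit false
set_option linter.unusedSectionVars false
set_option linter.unusedVariables false
set_option linter.style.haveILetI false
set_option linter.unusedSimpArgs false

namespace Cfsg.Agent.Sg

open Subgroup Cfsg.Agent.Transfer Cfsg.Agent.MS
open Comp (SSF InFam MaxQ)
open scoped commutatorElement

universe u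
variable {G : Type u} [Group G] [Finite G]
variable {A B D E H K L M N P Q R S T U V W X Y Z : Subgroup G} {p q r s t w : ℕ} {a b c : G}
variable {θ : G → Subgroup G} [hr : Fact r.Prime]

def Cp (r : ℕ) (A : Subgroup G) (θ : G → Subgroup G) : Prop :=
  ∃ K, InFam r A θ K ∧ ∀ a ∈ A, a ≠ 1 → θ a ≤ K

structure MC (r : ℕ) (A : Subgroup G) (θ : G → Subgroup G) : Prop where
  ssf : SSF r A θ
  card : #A = r ^ 3
  sub : ∀ θ', SSF r A θ' → (∀ a ∈ A, a ≠ 1 → θ' a ≤ θ a) → (∃ a ∈ A, a ≠ 1 ∧ ¬ θ a ≤ θ' a) →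
    Cp r A θ'
  quo : ∀ U, InFam r A θ U → U ≠ ⊥ → ∃ a ∈ A, a ≠ 1 ∧ ¬ θ a ≤ NN U
  ncp : ¬ Cp r A θ

structure Mx (r : ℕ) (A : Subgroup G) (θ : G → Subgroup G) (M : Subgroup G) : Prop where
  fam : InFam r A θ M
  max : ∀ H, InFam r A θ H → M ≤ H → H = M

/-- every member of the family normalizing `E` lies in `M` -/
def Un (r : ℕ) (A : Subgroup G) (θ : G → Subgroup G) (E M : Subgroup G) : Prop :=
  ∀ L, InFam r A θ L → L ≤ NN E → L ≤ M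

def piT (A : Subgroup G) (θ : G → Subgroup G) : Set ℕ := {p | ∃ a ∈ A, a ≠ 1 ∧ p ∣ #(θ a)}

theorem Un.cc (h : Un r A θ E M) (hL : InFam r A θ L) (h1 : L ≤ CC E) : L ≤ M :=
  h L hL (nn_of_cc h1)

theorem fam_pi (hU : InFam r A θ U) : IsPi {r}ᶜ U := pi_compl_iff_coprime.2 hU.cop

theorem fam_sub {θ' : G → Subgroup G} (hU : InFam r A θ' U) (h : ∀ a ∈ A, a ≠ 1 → θ' a ≤ θ a) :
    InFam r A θ U := ⟨hU.solv, hU.cop, hU.norm, fun a h1 h2 => (hU.le a h1 h2).trans (h a h1 h2)⟩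

theorem fam_O (hU : InFam r A θ U) (π : Set ℕ) : InFam r A θ (O π U) :=
  hU.of_le (O_le _ _) (nn_O hU.norm)

theorem fam_F (hU : InFam r A θ U) : InFam r A θ (F U) := hU.of_le (F_le _) (nn_F hU.norm)

theorem fam_inf (hU : InFam r A θ U) (h : A ≤ NN X) : InFam r A θ (U ⊓ X) :=
  hU.of_le inf_le_left (nn_inf hU.norm h)

theorem exists_mx (hU : InFam r A θ U) : ∃ M, Mx r A θ M ∧ U ≤ M := by
  obtain ⟨M, h1, h2⟩ := Finite.exists_le_maximal (p := fun M => InFam r A θ M) hU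
  exact ⟨M, ⟨h2.prop, fun H h3 h4 => le_antisymm (h2.le_of_ge h3 h4) h4⟩, h1⟩

theorem fam_ne_r (hU : InFam r A θ U) [Fact p.Prime] (h1 : X ≤ U) (hX : IsPGroup p X) (h0 : X ≠ ⊥) :
    p ≠ r := by
  rintro rfl
  exact h0 (pg_inf hX ((fam_pi hU).mono h1) (by simp) ▸ (inf_idem X).symm)

namespace MC
variable (h : MC r A θ)
include h

theorem el : El r 3 A A := ⟨le_rfl, h.ssf.elem, h.card⟩
theorem ab : IsMulCommutative A := h.el.ab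
theorem le3 : r ^ 3 ≤ #A := h.card.ge
theorem le2 : r ^ 2 ≤ #A := (Nat.pow_le_pow_right hr.out.pos (by norm_num)).trans h.le3
theorem le_C1 (ha : a ∈ A) : A ≤ C1 a := h.el.cc.trans (cc_le_C1 ha)
theorem nn_C1' (ha : a ∈ A) : A ≤ NN (C1 a) := nn_C1 (h.le_C1 ha)
theorem nn_sub (hB : B ≤ A) : A ≤ NN B := ab_nn h.ab le_rfl hB
theorem nn_zp (ha : a ∈ A) : A ≤ NN (zpowers a) := h.nn_sub (zpowers_le.2 ha)
theorem th (ha : a ∈ A) (h1 : a ≠ 1) : InFam r A θ (θ a) := h.ssf.inFam ha h1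
theorem th_le (ha : a ∈ A) (h1 : a ≠ 1) : θ a ≤ C1 a := h.ssf.le a ha h1
theorem th_nn_zp (ha : a ∈ A) (h1 : a ≠ 1) : θ a ≤ NN (zpowers a) :=
  nn_of_cc (cc_zpowers a ▸ h.th_le ha h1)
theorem zp_prime (ha : a ∈ A) (h1 : a ≠ 1) : (#(zpowers a)).Prime := by
  rw [h.el.card_zpowers ha h1]; exact hr.out
theorem cop (hU : InFam r A θ U) (hB : B ≤ A) : (#B).Coprime #U := hU.coprime h.ssf.elem hB
theorem cop_zp (hU : InFam r A θ U) (ha : a ∈ A) : (#(zpowers a)).Coprime #U :=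
  h.cop hU (zpowers_le.2 ha)
theorem zp_nn (hU : InFam r A θ U) (ha : a ∈ A) : zpowers a ≤ NN U := (zpowers_le.2 ha).trans hU.norm
theorem zp_pg (ha : a ∈ A) : IsPGroup r (zpowers a) := h.el.pg.to_le (zpowers_le.2 ha)
theorem zp_pi [Fact w.Prime] (ha : a ∈ A) (hw : w ≠ r) : IsPi {w}ᶜ (zpowers a) :=
  pi_of_pg (h.zp_pg ha) (Ne.symm hw)
theorem A_ne_bot : A ≠ ⊥ := h.el.ne_bot
theorem famC : InFam r A θ (signalizerInf A θ) := h.ssf.inFam_signalizerInf le_rfl h.A_ne_bot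
theorem C_le (ha : a ∈ A) (h1 : a ≠ 1) : signalizerInf A θ ≤ θ a := Comp.signalizerInf_le ha h1
theorem C_cc : signalizerInf A θ ≤ CC A := h.ssf.signalizerInf_le_centralizer le_rfl
theorem inf_cc_le (hU : InFam r A θ U) : U ⊓ CC A ≤ signalizerInf A θ := hU.inf_centralizer_le le_rfl
theorem sup (hX : InFam r A θ X) (hY : InFam r A θ Y) (hn : Y ≤ NN X) : InFam r A θ (X ⊔ Y) :=
  h.ssf.sup hX hY hn
theorem comm_fam (hU : InFam r A θ U) (ha : a ∈ A) : InFam r A θ ⁅U, zpowers a⁆ :=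
  hU.of_le (comm_le_left (h.zp_nn hU ha)) (nn_comm hU.norm (h.nn_zp ha))
theorem comm_comm (hU : InFam r A θ U) (ha : a ∈ A) : ⁅⁅U, zpowers a⁆, zpowers a⁆ = ⁅U, zpowers a⁆ :=
  cop_comm_comm (h.zp_nn hU ha) (h.cop_zp hU ha) hU.solv
theorem comm_sup (hU : InFam r A θ U) (ha : a ∈ A) : ⁅U, zpowers a⁆ ⊔ (U ⊓ C1 a) = U := by
  rw [← cc_zpowers]; exact cop_comm_sup (h.zp_nn hU ha) (h.cop_zp hU ha) hU.solv
theorem le_of_comm (hU : InFam r A θ U) (ha : a ∈ A) (h0 : a ≠ 1) (h1 : ⁅U, zpowers a⁆ ≤ X)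
    (h2 : θ a ≤ X) : U ≤ X := h.comm_sup hU ha ▸ sup_le h1 ((hU.le a ha h0).trans h2)
/-- a quadratic action of an element of `A` is trivial -/
theorem le_C1_of_comm (hU : InFam r A θ U) (ha : a ∈ A) (h1 : ⁅U, zpowers a⁆ ≤ C1 a) : U ≤ C1 a := by
  rw [← cc_zpowers] at h1 ⊢
  rw [← comm_eq_bot, ← h.comm_comm hU ha, comm_eq_bot]; exact h1
theorem gen (hU : InFam r A θ U) (h1 : ∀ a ∈ A, a ≠ 1 → U ⊓ θ a ≤ X) : U ≤ X :=
  h.ssf.le_of_forall h.le2 hU h1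
theorem gen_line (hU : InFam r A θ U) (hB : El r 2 B A) (h1 : ∀ b ∈ B, b ≠ 1 → U ⊓ C1 b ≤ X) :
    U ≤ X := cop_gen hB.ab hB.not_cyc (hB.le.trans hU.norm) (h.cop hU hB.le) h1
theorem gen_hyp (hU : InFam r A θ U) (h1 : ∀ B, El r 2 B A → U ⊓ CC B ≤ X) : U ≤ X :=
  cop_hyper h.el hU.norm (fam_pi hU) h1
theorem exists_line (hU : InFam r A θ U) (h1 : ¬ U ≤ X) : ∃ B, El r 2 B A ∧ ¬ U ⊓ CC B ≤ X := by
  by_contra! e
  exact h1 (h.gen_hyp hU e)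

theorem meet (h1 : El r 2 B A) (h2 : El r 2 D A) : ∃ a ∈ B, a ∈ D ∧ a ≠ 1 := by
  have e : B.relIndex A = r := by
    have := card_mul_relIndex h1.le
    rw [h1.card, h.card, pow_succ _ 2] at this
    exact Nat.eq_of_mul_eq_mul_left (pow_pos hr.out.pos _) this
  obtain ⟨a, ha, h3⟩ := exists_ne_one (Comp.ne_bot_of_pow_le_card (k := 0)
    (Comp.pow_le_card_inf_of_relIndex (k := 1) h2.le h2.card.ge e.le))
  exact ⟨a, ha.1, ha.2, h3⟩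

theorem not_all (hM : InFam r A θ M) : ¬ ∀ a ∈ A, a ≠ 1 → θ a ≤ M := fun e => h.ncp ⟨M, hM, e⟩

theorem block (hM : InFam r A θ M) (h1 : ∀ B, El r 2 B A → ∃ b ∈ B, b ≠ 1 ∧ θ b ≤ M) : False :=
  h.not_all hM fun a ha h0 => h.gen_hyp (h.th ha h0) fun B hB => by
    obtain ⟨b, h2, h3, h4⟩ := h1 B hB
    exact ((inf_le_inf_left _ (cc_le_C1 h2)).trans (h.ssf.bal a ha h0 b (hB.le h2) h3)).trans h4

theorem line (hM : InFam r A θ M) (hB : El r 2 B A) (h1 : ∀ b ∈ B, b ≠ 1 → θ b ≤ M) : False :=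
  h.block hM fun D hD => by
    obtain ⟨a, h2, h3, h4⟩ := h.meet hB hD
    exact ⟨a, h3, h4, h1 a h2 h4⟩

theorem loc (hU : InFam r A θ U) (h0 : U ≠ ⊥) :
    ∃ N, InFam r A θ N ∧ N ≤ NN U ∧ Un r A θ U N := by
  have h1 : SSF r A fun a => θ a ⊓ NN U :=
    ⟨h.ssf.elem, fun a ha h1 => inf_le_left.trans (h.th_le ha h1),
      fun a ha h1 => (fam_inf (h.th ha h1) (nn_nn hU.norm)).cop,
      fun a ha h1 => (fam_inf (h.th ha h1) (nn_nn hU.norm)).norm,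
      fun a ha h1 b hb h2 => le_inf ((inf_le_inf_right _ inf_le_left).trans (h.ssf.bal a ha h1 b hb h2))
        (inf_le_left.trans inf_le_right),
      fun a ha h1 => (fam_inf (h.th ha h1) (nn_nn hU.norm)).solv⟩
  obtain ⟨a, ha, h2, h3⟩ := h.quo U hU h0
  obtain ⟨K, h4, h5⟩ := h.sub _ h1 (fun a _ _ => inf_le_left) ⟨a, ha, h2, fun e => h3 (e.trans inf_le_right)⟩
  exact ⟨K, fam_sub h4 fun a _ _ => inf_le_left,
    h1.le_of_forall h.le2 h4 fun a _ _ => inf_le_right.trans inf_le_right,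
    fun L hL h6 => h.gen hL fun a ha h7 => le_trans (le_inf inf_le_right (inf_le_left.trans h6)) (h5 a ha h7)⟩

theorem locM (hU : InFam r A θ U) (h0 : U ≠ ⊥) : ∃ M, Mx r A θ M ∧ Un r A θ U M := by
  obtain ⟨N, h1, -, h3⟩ := h.loc hU h0
  obtain ⟨M, h4, h5⟩ := exists_mx h1
  exact ⟨M, h4, fun L h6 h7 => (h3 L h6 h7).trans h5⟩

theorem un (hM : Mx r A θ M) (h1 : E ≤ M) (h2 : M ≤ NN E) (h3 : A ≤ NN E) (h0 : E ≠ ⊥) :
    Un r A θ E M := by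
  obtain ⟨N, h4, -, h5⟩ := h.loc (hM.fam.of_le h1 h3) h0
  rwa [hM.max N h4 (h5 M hM.fam h2)] at h5

theorem unO (hM : Mx r A θ M) {π : Set ℕ} (h0 : O π M ≠ ⊥) : Un r A θ (O π M) M :=
  h.un hM (O_le _ _) (by nrm) (nn_O hM.fam.norm) h0

theorem mx_ne_bot (hM : Mx r A θ M) : M ≠ ⊥ := fun e =>
  h.not_all hM.fam fun a ha h1 => (hM.max _ (h.th ha h1) (e ▸ bot_le)).le

theorem lemW (hb : b ∈ A) (h0 : b ≠ 1) (hB : El r 2 B A) (hH : InFam r A θ H)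
    (h1 : ∀ c ∈ B, c ≠ 1 → ⁅θ c, zpowers b⁆ ≤ H) : False := by
  have key : ∀ D X, El r 2 D A → (∀ c ∈ D, c ≠ 1 → ⁅θ c, zpowers b⁆ ≤ X) →
      ∀ a ∈ A, a ≠ 1 → ⁅θ a, zpowers b⁆ ≤ X := fun D X hD h2 a ha h3 =>
    comm_gen (h.th ha h3).solv hD.ab hD.not_cyc (hD.le.trans (h.th ha h3).norm)
      (h.zp_nn (h.th ha h3) hb) (h.cop (h.th ha h3) hD.le) (h.cop_zp (h.th ha h3) hb)
      (ab_le_cc h.ab (zpowers_le.2 hb) hD.le) fun c hc h4 =>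
        (commutator_mono (h.ssf.bal a ha h3 c (hD.le hc) h4) le_rfl).trans (h2 c hc h4)
  set W0 : Subgroup G := ⨆ a : {a : G // a ∈ A ∧ a ≠ 1}, ⁅θ a, zpowers b⁆ with hW
  have w1 : W0 ≤ H := iSup_le fun a => key B H hB h1 a a.2.1 a.2.2
  have w2 : ∀ a ∈ A, a ≠ 1 → ⁅θ a, zpowers b⁆ ≤ W0 := fun a h1 h2 =>
    le_iSup (fun a : {a : G // a ∈ A ∧ a ≠ 1} => ⁅θ a, zpowers b⁆) ⟨a, h1, h2⟩
  have w3 : A ≤ NN W0 := Comp.le_normalizer_iSup fun a => (h.comm_fam (h.th a.2.1 a.2.2) hb).norm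
  have w4 : θ b ≤ NN W0 := h.gen_hyp (h.th hb h0) fun D hD => by
    have e : W0 = ⨆ a : {a : G // a ∈ D ∧ a ≠ 1}, ⁅θ a, zpowers b⁆ :=
      le_antisymm (iSup_le fun a => key D _ hD (fun c h1 h2 =>
        le_iSup (fun a : {a : G // a ∈ D ∧ a ≠ 1} => ⁅θ a, zpowers b⁆) ⟨c, h1, h2⟩) a a.2.1 a.2.2)
        (iSup_le fun a => w2 a (hD.le a.2.1) a.2.2)
    rw [e]
    exact Comp.le_normalizer_iSup fun a => nn_comm (nn_of_le ((inf_le_inf_left _ (cc_le_C1 a.2.1)).trans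
      (h.ssf.bal b hb h0 a (hD.le a.2.1) a.2.2))) (inf_le_left.trans (h.th_nn_zp hb h0))
  exact h.not_all (h.sup (hH.of_le w1 w3) (h.th hb h0) w4) fun a ha h2 =>
    h.le_of_comm (h.th ha h2) hb h0 ((w2 a ha h2).trans le_sup_left) le_sup_right

theorem pi_of (hU : InFam r A θ U) {σ : Set ℕ} (h1 : ∀ a ∈ A, a ≠ 1 → IsPi σ (U ⊓ C1 a)) :
    IsPi σ U := fun p hp hd => by
  haveI := Fact.mk hp
  obtain ⟨P, h2, h3⟩ := cop_syl p hU.norm (h.cop hU le_rfl) hU.solv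
  by_contra e
  refine syl_ne_bot h2 hd (le_bot_iff.1 (h.gen (hU.of_le h2.le h3) fun a ha h4 => ?_))
  exact (eq_bot_of_le (pg_inf h2.pgroup (h1 a ha h4) e) inf_le_left
    (inf_le_inf h2.le (h.th_le ha h4))).le

theorem fam_piT (hU : InFam r A θ U) : IsPi (piT A θ) U :=
  h.pi_of hU fun a ha h1 p hp hd => ⟨a, ha, h1, hd.trans (card_dvd (hU.le a ha h1))⟩

theorem mem_piT (hU : InFam r A θ U) [Fact p.Prime] (h1 : X ≤ U) (hX : IsPGroup p X) (h0 : X ≠ ⊥) :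
    p ∈ piT A θ := pg_mem_pi hX h0 ((h.fam_piT hU).mono h1)

theorem exists_Q (σ : Set ℕ) (hp : p.Prime) (h1 : p ∉ σ) (h2 : p ∈ piT A θ) :
    ∃ Q, InFam r A θ Q ∧ IsPi σ Q ∧ signalizerInf A θ ≤ NN Q ∧
      ∀ U, InFam r A θ U → IsPi σ U → signalizerInf A θ ≤ NN U → U ≤ Q := by
  set C := signalizerInf A θ with hC
  let θ' : G → Subgroup G := fun a =>
    ⨆ U : {U : Subgroup G // U ≤ θ a ∧ IsPi σ U ∧ A ≤ NN U ∧ C ≤ NN U}, U
  have t1 : ∀ a, θ' a ≤ θ a := fun a => iSup_le fun U => U.2.1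
  have t2 : ∀ a U, U ≤ θ a → IsPi σ U → A ≤ NN U → C ≤ NN U → U ≤ θ' a := fun a U h1 h2 h3 h4 =>
    le_iSup (fun U : {U : Subgroup G // U ≤ θ a ∧ IsPi σ U ∧ A ≤ NN U ∧ C ≤ NN U} => U.1) ⟨U, h1, h2, h3, h4⟩
  have t3 : ∀ a, A ≤ NN (θ' a) := fun a => Comp.le_normalizer_iSup fun U => U.2.2.2.1
  have t4 : ∀ a, C ≤ NN (θ' a) := fun a => Comp.le_normalizer_iSup fun U => U.2.2.2.2
  have t5 : ∀ a ∈ A, a ≠ 1 → IsPi σ (θ' a) := fun a ha h0 => by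
    have hθ := h.th ha h0
    obtain ⟨L, h3, h4⟩ := cop_hall hθ.norm (h.cop hθ le_rfl) hθ.solv σ
    refine h3.pi.mono (iSup_le fun U => ?_)
    obtain ⟨L', h5, h6, h7⟩ := cop_hall_ge hθ.norm (h.cop hθ le_rfl) hθ.solv (sol_of_ab h.ab)
      U.2.1 U.2.2.1 U.2.2.2.1
    obtain ⟨c, h8, rfl⟩ := cop_hall_conj hθ.norm (h.cop hθ le_rfl) hθ.solv h5 h3 h7 h4
    rw [← cj_nn (U.2.2.2.2 (h.inf_cc_le hθ h8))]
    exact cj_mono _ h6
  have t6 : SSF r A θ' :=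
    ⟨h.ssf.elem, fun a ha h1 => (t1 a).trans (h.th_le ha h1),
      fun a ha h1 => ((h.th ha h1).of_le (t1 a) (t3 a)).cop, fun a ha h1 => t3 a,
      fun a ha h1 b hb h2 => t2 b _ ((inf_le_inf_right _ (t1 a)).trans (h.ssf.bal a ha h1 b hb h2))
        ((t5 a ha h1).mono inf_le_left) (nn_inf (t3 a) (h.nn_C1' hb))
        (nn_inf (t4 a) (nn_C1 (h.C_cc.trans (cc_le_C1 hb)))),
      fun a ha h1 => ((h.th ha h1).of_le (t1 a) (t3 a)).solv⟩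
  obtain ⟨a, ha, h3, h4⟩ := h2
  obtain ⟨K, h5, h6⟩ := h.sub θ' t6 (fun a _ _ => t1 a)
    ⟨a, ha, h3, fun e => h1 (t5 a ha h3 p hp (h4.trans (card_dvd e)))⟩
  have h7 := fam_sub h5 fun a _ _ => t1 a
  have e : K = signalizerClosure A θ' :=
    le_antisymm (t6.le_closure h.le2 h5) (iSup_le fun a => h6 a a.2.1 a.2.2)
  refine ⟨K, h7, h.pi_of h7 fun a ha h8 => (t5 a ha h8).mono (h5.le a ha h8),
    e ▸ Comp.le_normalizer_iSup fun a => t4 a, fun U h8 h9 h10 => h.gen h8 fun a ha h11 => ?_⟩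
  exact le_trans (t2 a _ inf_le_right (h9.mono inf_le_left) (nn_inf h8.norm (h.th ha h11).norm)
    (nn_inf h10 (nn_of_le (h.C_le ha h11)))) (h6 a ha h11)

theorem syl_th [Fact p.Prime] (hS : MaxQ r p A θ S) (ha : a ∈ A) (h1 : a ≠ 1) :
    IsSyl p (S ⊓ C1 a) (θ a) := (h.ssf.sylIn_theta h.le3 hS ha h1).toSyl

theorem syl_inf [Fact p.Prime] (hS : MaxQ r p A θ S) (hH : InFam r A θ H)
    (h1 : signalizerInf A θ ≤ NN H) : IsSyl p (S ⊓ H) H := (h.ssf.sylIn_inf h.le3 hS hH h1).toSyl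

theorem le_maxQ [Fact p.Prime] (hS : MaxQ r p A θ S) (hU : InFam r A θ U) (hp : IsPGroup p U)
    (h1 : signalizerInf A θ ≤ NN U) : U ≤ S :=
  ((h.syl_inf hS hU h1).eq_of_le hp le_rfl inf_le_right).le.trans inf_le_left

theorem noCent [hp : Fact p.Prime] (hS : MaxQ r p A θ S) (h2 : p ∈ piT A θ) (hb : b ∈ A) (h0 : b ≠ 1) :
    ¬ S ≤ C1 b := fun e => by
  obtain ⟨Q, h3, -, -, h4⟩ := h.exists_Q {p}ᶜ hp.out (by simp) h2
  obtain ⟨B, hB⟩ := h.el.rk.anti (show 2 ≤ 3 by norm_num)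
  refine h.lemW hb h0 hB h3 fun c hc h5 => ?_
  have hc' := hB.le hc
  have hθ := h.th hc' h5
  exact (comm_le_O_of_syl hθ.solv (h.zp_nn hθ hb) (h.cop_zp hθ hb) (h.syl_th hS hc' h5)
    (cc_zpowers b ▸ inf_le_left.trans e)).trans
    (h4 _ (fam_O hθ _) (O_pi _ _) (nn_O (nn_of_le (h.C_le hc' h5))))

/-- if `b` centralizes the centralizer of a `p`-subgroup it centralizes in a maximal `p`-member -/
theorem noCent' [hp : Fact p.Prime] (hS : MaxQ r p A θ S) (hE : E ≤ S) (h1 : E ≠ ⊥) (hb : b ∈ A)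
    (h0 : b ≠ 1) (h2 : E ≤ C1 b) : ¬ S ⊓ CC E ≤ C1 b := fun e => by
  have hEp := hS.isP.to_le hE
  refine h.noCent hS (h.mem_piT hS.fam hE hEp h1) hb h0 ?_
  rw [← cc_zpowers] at h2 e ⊢
  exact pxq hS.isP hEp (h.zp_pi hb (fam_ne_r hS.fam hE hEp h1)) (nn_of_le hE) (h.zp_nn hS.fam hb) h2 e

theorem F_not_cent (hM : Mx r A θ M) (hb : b ∈ A) (h0 : b ≠ 1) : ¬ F M ≤ C1 b := fun e => by
  have h1 : M ≤ C1 b := by
    rw [← cc_zpowers] at e ⊢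
    exact cc_symm (cop_cent_F hM.fam.solv (h.zp_nn hM.fam hb) (h.cop_zp hM.fam hb) (cc_symm e))
  obtain ⟨p, hp, hd⟩ := exists_prime_dvd (F_ne_bot hM.fam.solv (h.mx_ne_bot hM))
  haveI := Fact.mk hp
  have h2 : O {p} M ≠ ⊥ := O1_F (p := p) M ▸ syl_ne_bot (nil_syl (F_nil M)) hd
  obtain ⟨S, h3, hS⟩ := Comp.exists_maxQ_ge (fam_O hM.fam {p}) (O_pg M)
  exact h.noCent' hS h3 h2 hb h0 ((O_le _ _).trans h1) (((h.unO hM h2).cc
    (fam_inf hS.fam (nn_cc (nn_O hM.fam.norm))) inf_le_right).trans h1)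

end MC

end Cfsg.Agent.Sg
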