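/-
Bender's uniqueness lemmas for a minimal incomplete solvable signalizer functor.
-/
import Cfsg.Agent.Lib.SSF.Min

set_option autoImplicit false
set_option linter.unusedSectionVars false
set_option linter.unusedVariables false
set_option linter.style.haveILetI false
set_option linter.unusedSimpArgs false

namespace Cfsg.Agent.Sg

open Subgroup Cfsg.Agent.Transfer Cfsg.Agent.MS
open _root_.Cfsg.Agent.Comp (SSF InFam MaxQ)
open scoped commutatorElement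

universe u
variable {G : Type u} [Group G] [Finite G]
variable {A B D E H K L M N P Q R S T U V W X Y Z : Subgroup G} {p q r s t w : ℕ} {a b c : G}
variable {θ : G → Subgroup G} [hr : Fact r.Prime]

/-- not of prime characteristic -/
def NC (M : Subgroup G) : Prop := ∀ p : ℕ, p.Prime → O {p}ᶜ M ≠ ⊥

/-- the centre of `O_p` -/
abbrev ZO (p : ℕ) (M : Subgroup G) : Subgroup G := O {p} M ⊓ CC (O {p} M)

/-- all centres of the `O_p(M)` lie in `N` -/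
def ZF (M N : Subgroup G) : Prop := ∀ p : ℕ, p.Prime → ZO p M ≤ N

theorem O_le_Oc (h : q ≠ p) (M : Subgroup G) : O {q} M ≤ O {p}ᶜ M := O_sub (by simpa using h.symm) M

theorem O_cc_O' (h : p ≠ q) (M : Subgroup G) : O {p} M ≤ CC (O {q} M) :=
  (O_cc_O _ _).trans (cc_anti (O_le_Oc h.symm M))

theorem exists_O (hs : Group.IsSolvable M) {σ : Set ℕ} (h : O σ M ≠ ⊥) :
    ∃ q : ℕ, q.Prime ∧ q ∈ σ ∧ O {q} M ≠ ⊥ := by
  obtain ⟨q, hq, hd⟩ := exists_prime_dvd (F_ne_bot (sol_mono hs (O_le _ _)) h)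
  haveI := Fact.mk hq
  refine ⟨q, hq, O_pi _ _ q hq (hd.trans (card_dvd (F_le _))), fun e => ?_⟩
  refine syl_ne_bot (nil_syl (F_nil _)) hd ?_
  rw [O1_F]
  exact le_bot_iff.1 (e ▸ O_le_O (O_le _ _) (by nrm))

theorem NC.exists (h : NC M) (hs : Group.IsSolvable M) (hp : p.Prime) :
    ∃ q : ℕ, q.Prime ∧ q ≠ p ∧ O {q} M ≠ ⊥ := exists_O hs (h p hp)

theorem nc_of (hp : p.Prime) (hq : q.Prime) (h : p ≠ q) (h1 : O {p} M ≠ ⊥) (h2 : O {q} M ≠ ⊥) :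
    NC M := fun w hw e => by
  by_cases h3 : p = w
  · exact h2 (le_bot_iff.1 (e ▸ O_le_Oc (h3 ▸ h.symm) M))
  · exact h1 (le_bot_iff.1 (e ▸ O_le_Oc h3 M))

theorem ZO_ne_bot [Fact p.Prime] (h : O {p} M ≠ ⊥) : ZO p M ≠ ⊥ :=
  nil_meet (nil_of_pg (O_pg M)) le_rfl (le_nn _) h

theorem nn_ZO (h : A ≤ NN M) : A ≤ NN (ZO p M) := by unfold ZO; nrm

theorem ZO_le (p : ℕ) (M : Subgroup G) : ZO p M ≤ M := inf_le_left.trans (O_le _ _)

theorem ZO_pg [Fact p.Prime] (M : Subgroup G) : IsPGroup p (ZO p M) := (O_pg M).to_le inf_le_left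

/-- the centres of all `O_q(M)` centralize a subgroup of `O_p(M)` -/
theorem ZO_cc (h : X ≤ O {p} M) : ZO q M ≤ CC X := by
  by_cases e : q = p
  · exact e ▸ inf_le_right.trans (cc_anti (e ▸ h))
  · exact inf_le_left.trans ((O_cc_O' e M).trans (cc_anti h))

theorem fam_ZO (hU : InFam r A θ U) (p : ℕ) : InFam r A θ (ZO p U) :=
  hU.of_le (ZO_le _ _) (nn_ZO hU.norm)

theorem Un.zf (h : Un r A θ X N) (hM : InFam r A θ M) (h1 : X ≤ O {p} M) : ZF M N := fun q _ =>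
  h.cc (fam_ZO hM q) (ZO_cc h1)

/-- a `p`-subgroup centralizing all `O_q`, `q ≠ p`, forces `O_p ≠ 1` -/
theorem O_ne_bot_of_cc [Fact p.Prime] (hs : Group.IsSolvable N) (h1 : X ≤ N) (hX : IsPGroup p X)
    (h0 : X ≠ ⊥) (h : ∀ q : ℕ, q.Prime → q ≠ p → O {q} N ≤ CC X) : O {p} N ≠ ⊥ := fun e => by
  have h2 : X ≤ F N := (le_inf h1 (cc_symm (F_le_of_O fun q hq _ => by
    by_cases e1 : q = p
    · rw [e1, e]; exact bot_le
    · exact h q hq e1))).trans (cc_F_le hs)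
  exact h0 (le_bot_iff.1 (e ▸ O1_F (p := p) N ▸ nil_le_O (F_nil N) h2 (pi1_of_pg hX)))

theorem pg_cc [Fact p.Prime] [Fact q.Prime] (hX : IsPGroup p X) (hY : IsPGroup q Y) (h : p ≠ q)
    (h1 : X ≤ NN Y) (h2 : Y ≤ NN X) : X ≤ CC Y := cc_of_coprime h1 h2 (pg_coprime_pg hX hY h)

/-- in a group of characteristic `s` an `s'`-subgroup normalized by `O_s` is trivial -/
theorem ch_bot [Fact s.Prime] (hs : Group.IsSolvable M) (hc : O {s}ᶜ M = ⊥) (h1 : W ≤ M)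
    (h2 : IsPi {s}ᶜ W) (h3 : W ≤ CC (O {s} M)) : W = ⊥ :=
  eq_bot_of_le (pg_inf (O_pg M) h2 (by simp)) ((le_inf h1 h3).trans (cc_O_le hs hc)) le_rfl

theorem ch_bot' [Fact s.Prime] (hs : Group.IsSolvable M) (hc : O {s}ᶜ M = ⊥) (h1 : W ≤ M)
    (h0 : W ≤ V) (h2 : IsPi {s}ᶜ V) (h3 : O {s} M ≤ NN V) : W = ⊥ :=
  ch_bot hs hc h1 (h2.mono h0) (cc_of_le h0 (h1.trans (by nrm)) h3
    ((inf_comm _ _).trans (pg_inf (O_pg M) h2 (by simp))))

theorem ncl_le (h0 : X ≤ Y) (h : ∀ g ∈ M, cj g X ≤ Y) : X ⊔ ⁅X, M⁆ ≤ Y :=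
  sup_le h0 (commutator_le.2 fun x hx g hg => by
    rw [commutatorElement_def, mul_assoc, mul_assoc, ← mul_assoc g]
    exact mul_mem (h0 hx) (h g hg (conj_mem_cj (inv_mem hx))))

theorem nn_ncl (X M : Subgroup G) : M ≤ NN (X ⊔ ⁅X, M⁆ : Subgroup G) :=
  nn_of_comm_le' (comm_sup_l (nn_of_le le_sup_left) (nn_of_le le_sup_right) le_sup_right
    ((comm_le_left (right_nn_comm X M)).trans le_sup_right))

namespace MC
variable (h : MC r A θ)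
include h

theorem pq [Fact s.Prime] (hV : InFam r A θ V) (hVs : IsPGroup s V) (hE : IsPGroup s E)
    (hA : A ≤ NN E) (hU : Un r A θ E M) (hD : D ≤ O {s}ᶜ M) (h1 : E ≤ NN V) (h2 : D ≤ NN V)
    (h3 : E ≤ CC D) : V ≤ CC D :=
  pxq hVs hE ((O_pi _ _).mono hD) h1 h2 h3 (cc_of_le2 inf_le_left hD
    ((hU.cc (fam_inf hV (nn_cc hA)) inf_le_right).trans (by nrm)) h2 (pg_inf hVs (O_pi _ _) (by simp)))

theorem unZ [Fact p.Prime] (hM : Mx r A θ M) (h0 : O {p} M ≠ ⊥) : Un r A θ (ZO p M) M :=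
  h.un hM (ZO_le _ _) (nn_ZO (le_nn _)) (nn_ZO hM.fam.norm) (ZO_ne_bot h0)

theorem mx_eq (hN : Mx r A θ N) (hM : InFam r A θ M) (hU : Un r A θ E M) (h1 : N ≤ NN E) : N = M :=
  (hN.max M hM (hU N hN.fam h1)).symm

theorem bm_cc [Fact p.Prime] (hN : Mx r A θ N) (h1 : F M ≤ N) (h2 : F N ≤ M) :
    O {p} M ≤ CC (O {p}ᶜ N) := by
  have h3 : O {p} M ≤ N := (O_le_F M).trans h1
  have h4 := pg_coprime (O_pg (p := p) M) (O_pi {p}ᶜ N) (by simp)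
  exact cop_cent_F (sol_mono hN.fam.solv (O_le _ _)) (h3.trans (by nrm)) h4
    (cc_of_coprime (h3.trans (by nrm)) (((F_le_F (O_le _ _) (by nrm)).trans h2).trans (by nrm))
      (coprime_mono h4 le_rfl (F_le _)))

theorem bm_le [Fact p.Prime] (hM : Mx r A θ M) (hN : Mx r A θ N) (h1 : F M ≤ N) (h2 : F N ≤ M)
    (h3 : O {p} M ≠ ⊥) (h4 : O {p} N ≠ ⊥) : O {p}ᶜ N ≤ O {p}ᶜ M := by
  have h5 := cc_symm (h.bm_cc (p := p) hN h1 h2)
  have h6 : O {p} N ≤ M := (O_le_F N).trans h2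
  refine le_O_of_cent (P := O {p} M ⊔ O {p} N) (L := N) hM.fam.solv
    (pg_sup_l (O_pg M) (O_pg N) (h6.trans (by nrm))) (sup_le (O_le _ _) h6) ?_ le_rfl
    ((h.unO hM h3).cc (fam_O hN.fam _) h5) (le_cc_sup h5 (cc_symm (O_cc_O _ _)))
  exact (h.unO hN h4).cc (fam_inf hM.fam (nn_cc (nn_sup (nn_O hM.fam.norm) (nn_O hN.fam.norm))))
    (inf_le_right.trans (cc_anti le_sup_right))

theorem bm (hM : Mx r A θ M) (hN : Mx r A θ N) (hc : NC M) (h1 : F M ≤ N) (h2 : F N ≤ M) : N = M := by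
  obtain ⟨p, hp, -, h3⟩ := hc.exists hM.fam.solv Nat.prime_two
  haveI := Fact.mk hp
  have h4 : O {p} N ≠ ⊥ := O_ne_bot_of_cc hN.fam.solv ((O_le_F M).trans h1) (O_pg M) h3
    fun q _ e => (O_le_Oc e N).trans (cc_symm (h.bm_cc hN h1 h2))
  have e := le_antisymm (h.bm_le hM hN h1 h2 h3 h4) (h.bm_le hN hM h2 h1 h4 h3)
  exact h.mx_eq hN hM.fam (h.unO hM (hc p hp)) (e ▸ by nrm)

theorem bf_cc [Fact p.Prime] (hM : Mx r A θ M) (hN : InFam r A θ N) (h1 : ZF M N)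
    (h3 : O {p} M ≠ ⊥) (hq : q.Prime) (e : q ≠ p) : O {p} N ≤ CC (ZO q M) :=
  h.pq (fam_O hN _) (O_pg N) (ZO_pg M) (nn_ZO hM.fam.norm) (h.unZ hM h3)
    (inf_le_left.trans (O_le_Oc e M)) ((h1 p Fact.out).trans (by nrm)) ((h1 q hq).trans (by nrm))
    (ZO_cc inf_le_left)

theorem bf [hp : Fact p.Prime] (hM : Mx r A θ M) (hc : NC M) (hN : InFam r A θ N) (h1 : ZF M N)
    (h3 : O {p} M ≠ ⊥) : O {p} N ≤ M := by
  obtain ⟨q, hq, e, h4⟩ := hc.exists hM.fam.solv hp.out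
  haveI := Fact.mk hq
  exact (h.unZ hM h4).cc (fam_O hN _) (h.bf_cc hM hN h1 h3 hq e)

theorem bp (hM : Mx r A θ M) (hc : NC M) (hN : Mx r A θ N) (h1 : ZF M N)
    (h2 : ∀ w : ℕ, w.Prime → O {w} M = ⊥ → O {w} N ≤ M) : N = M := by
  have h3 : ∀ w : ℕ, w.Prime → O {w} N ≤ M := fun w hw => by
    haveI := Fact.mk hw
    by_cases e : O {w} M = ⊥
    exacts [h2 w hw e, h.bf hM hc hN.fam h1 e]
  have h4 : ∀ p : ℕ, p.Prime → O {p} M ≠ ⊥ → O {p} N ≠ ⊥ := fun p hp e => by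
    haveI := Fact.mk hp
    refine O_ne_bot_of_cc hN.fam.solv (h1 p hp) (ZO_pg M) (ZO_ne_bot e) fun q hq e1 => ?_
    haveI := Fact.mk hq
    exact pg_cc (O_pg N) (ZO_pg M) e1 ((h3 q hq).trans (nn_ZO (le_nn _))) ((h1 p hp).trans (by nrm))
  have h5 : NC N := fun p hp e => by
    obtain ⟨q, hq, e1, h5⟩ := hc.exists hM.fam.solv hp
    exact h4 q hq h5 (le_bot_iff.1 (e ▸ O_le_Oc e1 N))
  refine h.bm hM hN hc (F_le_of_O fun p hp _ => ?_) (F_le_of_O fun p hp _ => h3 p hp)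
  haveI := Fact.mk hp
  by_cases e : O {p} M = ⊥
  · rw [e]; exact bot_le
  · exact h.bf hN h5 hM.fam (fun q hq => inf_le_left.trans (h3 q hq)) (h4 p hp e)

theorem mx_ch (hM : Mx r A θ M) (hc : ¬ NC M) :
    ∃ p : ℕ, p.Prime ∧ O {p}ᶜ M = ⊥ ∧ O {p} M ≠ ⊥ := by
  simp only [NC, not_forall, not_not] at hc
  obtain ⟨p, hp, e⟩ := hc
  haveI := Fact.mk hp
  exact ⟨p, hp, e, F_eq_O e ▸ F_ne_bot hM.fam.solv (h.mx_ne_bot hM)⟩

end MC

theorem ch_of_not_nc (hp : p.Prime) (hc : ¬ NC M) (h0 : O {p} M ≠ ⊥) : O {p}ᶜ M = ⊥ := by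
  simp only [NC, not_forall, not_not] at hc
  obtain ⟨q, hq, e⟩ := hc
  by_cases e1 : p = q
  · exact e1 ▸ e
  · exact absurd (le_bot_iff.1 (e ▸ O_le_Oc e1 M)) h0

end Cfsg.Agent.Sg
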