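/-
A minimal incomplete solvable signalizer functor involving at most two primes.
-/
import Cfsg.Agent.Lib.SSF.Ben

set_option autoImplicit false
set_option linter.unusedSectionVars false
set_option linter.unusedVariables false
set_option linter.style.haveILetI false
set_option linter.unusedSimpArgs false

namespace Cfsg.Agent.Sg

open Subgroup Cfsg.Agent.Transfer Cfsg.Agent.MS
open _root_.Cfsg.Agent.Comp (SSF InFam MaxQ)
open scoped commutatorElement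

universe u
variable {G : Type u} [Group G] [Finite G]
variable {A B D E H K L M N P Q R S T U V W X Y Z : Subgroup G} {p q r s t w : ℕ} {a b c : G}
variable {θ : G → Subgroup G} [hr : Fact r.Prime]

/-- a maximal member of characteristic `s` containing the centralizer of `A` -/
structure CM (r : ℕ) (A : Subgroup G) (θ : G → Subgroup G) (s : ℕ) (M : Subgroup G) : Prop where
  mx : Mx r A θ M
  ch : O {s}ᶜ M = ⊥
  C : signalizerInf A θ ≤ M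

/-- local characteristic `s` -/
def LC (r : ℕ) (A : Subgroup G) (θ : G → Subgroup G) (s : ℕ) : Prop :=
  ∀ U N, InFam r A θ U → IsPGroup s U → U ≠ ⊥ → InFam r A θ N → N ≤ NN U → Un r A θ U N →
    O {s}ᶜ N = ⊥

def ULC (r : ℕ) (A : Subgroup G) (θ : G → Subgroup G) (s : ℕ) : Prop :=
  LC r A θ s → ∀ M N, CM r A θ s M → CM r A θ s N → M = N

def PP (r : ℕ) (A : Subgroup G) (θ : G → Subgroup G) (s : ℕ) : Prop :=
  ∀ M N, CM r A θ s M → CM r A θ s N → O {s} M ≤ N → ZO s N ≤ M → M = N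

def Gam (r : ℕ) (A : Subgroup G) (θ : G → Subgroup G) (s : ℕ) (c : G) : Prop :=
  ∃ M, CM r A θ s M ∧ θ c ≤ M

/-- every line contains an element with the property -/
def Blk (r : ℕ) (A : Subgroup G) (Γ : G → Prop) : Prop :=
  ∀ B, El r 2 B A → ∃ c ∈ B, c ≠ 1 ∧ Γ c

theorem O_nn_eq [Fact s.Prime] (hM : InFam r A θ M) (hU : InFam r A θ U) (hs : IsPGroup s U)
    (hN : InFam r A θ N) (h1 : N ≤ NN U) (h2 : Un r A θ U N) (h3 : N ≤ M) :
    O {s}ᶜ N ≤ O {s}ᶜ M := by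
  have e : N = M ⊓ NN U :=
    le_antisymm (le_inf h3 h1) (h2 _ (fam_inf hM (nn_nn hU.norm)) inf_le_right)
  rw [e]
  exact O_nn_le hM.solv hs ((h2 U hU (le_nn _)).trans h3)

namespace MC
variable (h : MC r A θ)
include h

theorem exists_line' : ∃ B, El r 2 B A := h.el.rk.anti (show 2 ≤ 3 by norm_num)

theorem blk_of_line {Γ : G → Prop} (hB : El r 2 B A) (h1 : ∀ b ∈ B, b ≠ 1 → Γ b) : Blk r A Γ :=
  fun D hD => by
    obtain ⟨a, h2, h3, h4⟩ := h.meet hB hD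
    exact ⟨a, h3, h4, h1 a h2 h4⟩

theorem blk_false (hb : Blk r A (Gam r A θ s))
    (hu : ∀ M N, CM r A θ s M → CM r A θ s N → M = N) : False := by
  obtain ⟨B, hB⟩ := h.exists_line'
  obtain ⟨c, -, -, M, hM, -⟩ := hb B hB
  exact h.block hM.mx.fam fun D hD => by
    obtain ⟨d, h1, h2, N, h3, h4⟩ := hb D hD
    exact ⟨d, h1, h2, hu N M h3 hM ▸ h4⟩

theorem cm_O [Fact s.Prime] (hM : CM r A θ s M) : O {s} M ≠ ⊥ :=
  F_eq_O hM.ch ▸ F_ne_bot hM.mx.fam.solv (h.mx_ne_bot hM.mx)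

theorem O_le_maxQ [Fact s.Prime] (hS : MaxQ r s A θ S) (hM : InFam r A θ M)
    (h1 : signalizerInf A θ ≤ M) : O {s} M ≤ S :=
  h.le_maxQ hS (fam_O hM _) (O_pg M) (nn_O (nn_of_le h1))

theorem cm_Z [Fact s.Prime] (hM : CM r A θ s M) (hS : MaxQ r s A θ S) : S ⊓ CC S ≤ O {s} M := by
  have h1 : S ⊓ CC S ≤ CC (O {s} M) :=
    inf_le_right.trans (cc_anti (h.O_le_maxQ hS hM.mx.fam hM.C))
  exact (le_inf ((h.unO hM.mx (h.cm_O hM)).cc (fam_inf hS.fam (nn_cc hS.fam.norm)) h1) h1).trans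
    (cc_O_le hM.mx.fam.solv hM.ch)

theorem lc_of_blk [Fact s.Prime] (hb : Blk r A (Gam r A θ s)) (hnc : ∀ M, Mx r A θ M → ¬ NC M) :
    LC r A θ s := fun U N hU hs h0 hN h1 h2 => by
  obtain ⟨M, hM, h3⟩ := exists_mx hN
  obtain ⟨S, h4, hS⟩ := Comp.exists_maxQ_ge hU hs
  obtain ⟨p, hp, h5, h6⟩ := h.mx_ch hM (hnc M hM)
  haveI := Fact.mk hp
  by_cases e : s = p
  · subst e
    exact le_bot_iff.1 (h5 ▸ O_nn_eq hM.fam hU hs hN h1 h2 h3)
  have hZ := fam_inf hS.fam (nn_cc hS.fam.norm)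
  have h7 : S ⊓ CC S ≤ M := (h2.cc hZ (inf_le_right.trans (cc_anti h4))).trans h3
  refine absurd (ch_bot hM.fam.solv h5 h7 (pi_of_pg (hS.isP.to_le inf_le_left) e) (cc_symm ?_))
    (nil_meet (nil_of_pg hS.isP) le_rfl (le_nn _) fun e => h0 (le_bot_iff.1 (e ▸ h4)))
  refine h.gen_hyp (fam_O hM.fam _) fun B hB => ?_
  obtain ⟨c, h8, h9, L, hL, h10⟩ := hb B hB
  exact cc_of_le2 inf_le_left (h.cm_Z hL hS) ((((inf_le_inf_left _ (cc_le_C1 h8)).trans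
    ((fam_O hM.fam _).le c (hB.le h8) h9)).trans h10).trans (by nrm)) (h7.trans (by nrm))
    (pg_inf (O_pg M) (O_pi _ L) (Ne.symm e))

/-- an element with nontrivial fixed points on two members -/
theorem exists_both (hU : InFam r A θ U) (hV : InFam r A θ V) (h1 : U ≠ ⊥) (h2 : V ≠ ⊥) :
    ∃ a ∈ A, a ≠ 1 ∧ U ⊓ C1 a ≠ ⊥ ∧ V ⊓ C1 a ≠ ⊥ := by
  simpa only [le_bot_iff] using Comp.exists_centralizer_not_le_two (D₁ := ⊥) (D₂ := ⊥) h.ssf.elem h.le3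
    hU.norm hV.norm hU.cop hV.cop (by simpa) (by simpa)

theorem fam_C1 (hU : InFam r A θ U) (ha : a ∈ A) : InFam r A θ (U ⊓ C1 a) := fam_inf hU (h.nn_C1' ha)

end MC

structure Two (r : ℕ) (A : Subgroup G) (θ : G → Subgroup G) (s t : ℕ) (M : Subgroup G) : Prop where
  mc : MC r A θ
  ne : s ≠ t
  pi : ∀ p : ℕ, p.Prime → p ∈ piT A θ → p = s ∨ p = t
  mx : Mx r A θ M
  nc : NC M

namespace Two
variable [hs : Fact s.Prime] [ht : Fact t.Prime] (h : Two r A θ s t M)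
include h

theorem symm : Two r A θ t s M := ⟨h.mc, h.ne.symm, fun p h1 h2 => (h.pi p h1 h2).symm, h.mx, h.nc⟩

theorem or (hN : InFam r A θ N) (hp : p.Prime) (h0 : O {p} N ≠ ⊥) : p = s ∨ p = t :=
  haveI := Fact.mk hp
  h.pi p hp (h.mc.mem_piT hN (O_le _ _) (O_pg N) h0)

theorem Os : O {s} M ≠ ⊥ := by
  obtain ⟨q, hq, e, h1⟩ := h.nc.exists h.mx.fam.solv ht.out
  exact (h.or h.mx.fam hq h1).resolve_right e ▸ h1

theorem bp (hN : Mx r A θ N) (h1 : ZF M N) : N = M :=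
  h.mc.bp h.mx h.nc hN h1 fun w hw e => by
    by_contra e1
    rcases h.or hN.fam hw (fun e => e1 (e ▸ bot_le)) with rfl | rfl
    exacts [h.Os e, h.symm.Os e]

theorem un (h1 : U ≤ O {p} M) (h2 : A ≤ NN U) (h0 : U ≠ ⊥) : Un r A θ U M := by
  obtain ⟨N, hN, h3⟩ := h.mc.locM (h.mx.fam.of_le (h1.trans (O_le _ _)) h2) h0
  exact h.bp hN (h3.zf h.mx.fam h1) ▸ h3

theorem O_cc (h1 : U ≤ O {s} M) (h2 : A ≤ NN U) (h0 : U ≠ ⊥) (h3 : V ≤ O {t} M)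
    (hN : InFam r A θ N) (h4 : U ≤ N) (h5 : V ≤ N) : O {s} N ≤ CC V :=
  h.mc.pq (fam_O hN _) (O_pg N) ((O_pg M).to_le h1) h2 (h.un h1 h2 h0) (h3.trans (O_le_Oc h.ne.symm M))
    (h4.trans (by nrm)) (h5.trans (by nrm)) (h1.trans ((O_cc_O' h.ne M).trans (cc_anti h3)))

theorem O_ne (h1 : U ≤ O {s} M) (h0 : U ≠ ⊥) (h3 : V ≤ O {t} M) (h2 : A ≤ NN V) (h6 : V ≠ ⊥)
    (hN : InFam r A θ N) (h4 : U ≤ N) (h5 : V ≤ N) : O {s} N ≠ ⊥ :=
  O_ne_bot_of_cc hN.solv h4 ((O_pg M).to_le h1) h0 fun q hq e => by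
    by_cases e1 : O {q} N = ⊥
    · rw [e1]; exact bot_le
    · obtain rfl := (h.or hN hq e1).resolve_left e
      exact h.symm.O_cc h3 h2 h6 h1 hN h5 h4

theorem le (h1 : U ≤ O {s} M) (h2 : A ≤ NN U) (h0 : U ≠ ⊥) (h3 : V ≤ O {t} M) (h7 : A ≤ NN V)
    (h6 : V ≠ ⊥) (hH : InFam r A θ H) (h4 : U ≤ H) (h5 : V ≤ H) : H ≤ M := by
  obtain ⟨N, hN, h8⟩ := exists_mx hH
  replace h4 := h4.trans h8
  replace h5 := h5.trans h8
  have h9 : Two r A θ s t N := ⟨h.mc, h.ne, h.pi, hN, nc_of hs.out ht.out h.ne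
    (h.O_ne h1 h0 h3 h7 h6 hN.fam h4 h5) (h.symm.O_ne h3 h6 h1 h2 h0 hN.fam h5 h4)⟩
  refine h8.trans (h9.bp h.mx fun p hp => ?_).ge
  by_cases e1 : O {p} N = ⊥
  · exact inf_le_left.trans (e1 ▸ bot_le)
  rcases h.or hN.fam hp e1 with rfl | rfl
  · exact inf_le_left.trans ((h.un h3 h7 h6).cc (fam_O hN.fam _) (h.O_cc h1 h2 h0 h3 hN.fam h4 h5))
  · exact inf_le_left.trans ((h.un h1 h2 h0).cc (fam_O hN.fam _)
      (h.symm.O_cc h3 h7 h6 h1 hN.fam h5 h4))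

theorem th_le (ha : a ∈ A) (h0 : a ≠ 1) (h1 : O {s} M ⊓ C1 a ≠ ⊥) (h2 : O {t} M ⊓ C1 a ≠ ⊥) :
    θ a ≤ M :=
  h.le inf_le_left (h.mc.fam_C1 (fam_O h.mx.fam _) ha).norm h1 inf_le_left
    (h.mc.fam_C1 (fam_O h.mx.fam _) ha).norm h2 (h.mc.th ha h0) ((fam_O h.mx.fam _).le a ha h0)
    ((fam_O h.mx.fam _).le a ha h0)

theorem C_le : signalizerInf A θ ≤ M := by
  obtain ⟨a, ha, h0, h1, h2⟩ := h.mc.exists_both (fam_O h.mx.fam _) (fam_O h.mx.fam _) h.Os h.symm.Os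
  exact (h.mc.C_le ha h0).trans (h.th_le ha h0 h1 h2)

theorem prod (hH : InFam r A θ H) (h1 : IsSyl s P H) (h2 : IsSyl t Q H) : Solv.IsProd H Q P :=
  (hall_of_syl h2).prod ((hall_of_syl h1).congr fun p hp hd => ⟨fun e => by
    rw [show p = s from e]; exact h.ne, fun e => (h.pi p hp (h.mc.fam_piT hH p hp hd)).resolve_right e⟩)

theorem not_le (hP : MaxQ r s A θ P) : ¬ P ≤ M := fun e => by
  obtain ⟨Q, h1, hQ⟩ := Comp.exists_maxQ_ge (fam_O h.mx.fam {t}) (O_pg M)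
  obtain ⟨B, hB, h2⟩ := h.mc.exists_line (fam_O h.mx.fam {s}) (X := ⊥) (by simpa using h.Os)
  refine h.mc.line h.mx.fam hB fun c hc h0 => ?_
  have hc' := hB.le hc
  have hθ := h.mc.th hc' h0
  have h3 : InFam r A θ (O {t} M ⊔ ⁅O {t} M, θ c⁆) := by
    refine hQ.fam.of_le (ncl_le h1 fun g hg => ?_)
      (nn_sup (nn_O h.mx.fam.norm) (nn_comm (nn_O h.mx.fam.norm) hθ.norm))
    obtain ⟨x, hx, y, hy, rfl⟩ := h.prod hθ (h.mc.syl_th hP hc' h0) (h.mc.syl_th hQ hc' h0) g hg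
    rw [← cj_cj, cj_nn (nn_O (le_nn M) (e hy.1))]
    exact cj_le' h1 hx.1
  refine le_sup_right.trans (h.le inf_le_left (h.mc.fam_C1 (fam_O h.mx.fam _) hc').norm
    (fun e => h2 ((inf_le_inf_left _ (cc_le_C1 hc)).trans e.le)) le_rfl (nn_O h.mx.fam.norm) h.symm.Os
    (h.mc.sup h3 hθ (nn_ncl _ _)) (((fam_O h.mx.fam _).le c hc' h0).trans le_sup_right)
    (le_sup_left.trans le_sup_left))

theorem false_of_odd (h2 : s ≠ 2) : False := by
  have hM := h.mx.fam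
  obtain ⟨P, h1, hP⟩ := Comp.exists_maxQ_ge (fam_O hM {s}) (O_pg M)
  have hS : InFam r A θ (P ⊓ M) := fam_inf hP.fam hM.norm
  have hSp : IsPGroup s (P ⊓ M : Subgroup G) := hP.isP.to_le inf_le_left
  have h3 : P ⊓ M < P := lt_of_le_of_ne inf_le_left fun e => h.not_le hP (e ▸ inf_le_right)
  obtain ⟨B, hB, h4⟩ := h.mc.exists_line (fam_inf hP.fam (nn_nn hS.norm)) (X := M) fun e =>
    (nil_lt_nn (nil_of_pg hP.isP) h3).not_ge (le_inf inf_le_left e)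
  set Y := P ⊓ NN (P ⊓ M : Subgroup G) ⊓ CC B with hY
  have hYf : InFam r A θ Y := fam_inf (fam_inf hP.fam (nn_nn hS.norm)) (nn_cc (h.mc.nn_sub hB.le))
  obtain ⟨b, hb, h0, h5⟩ : ∃ b ∈ B, b ≠ 1 ∧ O {s} M ⊓ C1 b ≠ ⊥ := by
    by_contra! e
    exact h.Os (le_bot_iff.1 (h.mc.gen_line (fam_O hM _) hB fun b hb h0 => (e b hb h0).le))
  have hb' := hB.le hb
  have hYb : Y ≤ C1 b := inf_le_right.trans (cc_le_C1 hb)
  have h6 : O {t} M ⊓ C1 b = ⊥ := by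
    by_contra e
    exact h4 ((le_inf le_rfl hYb).trans ((hYf.le b hb' h0).trans (h.th_le hb' h0 h5 e)))
  have h7 : ⁅P ⊓ M, zpowers b⁆ ≤ CC (O {t} M) :=
    gl (O_pg M) hS.solv (h.mc.zp_nn hS hb') (inf_le_right.trans (by nrm))
      (h.mc.zp_nn (fam_O hM _) hb') (h.mc.zp_prime hb' h0) (h.mc.cop_zp hS hb') (pi_of_pg hSp h.ne)
      (h.mc.zp_pi hb' (fam_ne_r hM (O_le _ _) (O_pg M) h.symm.Os))
      (.inl (BG.odd_of_isPGroup h2 hSp)) (by rw [cc_zpowers, h6]; exact bot_le)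
  have h8 : ⁅P ⊓ M, zpowers b⁆ ≤ P ⊓ M := comm_le_left (h.mc.zp_nn hS hb')
  have hYn : Y ≤ NN (P ⊓ M : Subgroup G) := inf_le_left.trans inf_le_right
  have h9 : ⁅P ⊓ M, zpowers b⁆ = ⊥ := by
    by_contra e
    have k1 := nil_meet (K := (P ⊓ M) ⊔ Y) (nil_of_pg (hP.isP.to_le (sup_le inf_le_left
      (inf_le_left.trans inf_le_left)))) (h8.trans le_sup_left) (sup_le (left_nn_comm _ _)
      (nn_comm hYn (nn_of_cc (cc_zpowers b ▸ hYb)))) e
    have k2 : ⁅P ⊓ M, zpowers b⁆ ⊓ CC (P ⊓ M ⊔ Y : Subgroup G) ≤ F M := by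
      refine le_trans (le_inf (inf_le_left.trans (h8.trans inf_le_right)) (cc_symm (F_le_of_O
        fun q hq _ => ?_))) (cc_F_le hM.solv)
      by_cases e1 : O {q} M = ⊥
      · rw [e1]; exact bot_le
      rcases h.or hM hq e1 with rfl | rfl
      · exact cc_symm (inf_le_right.trans (cc_anti ((le_inf h1 (O_le _ _)).trans le_sup_left)))
      · exact cc_symm (inf_le_left.trans h7)
    have k3 := nil_le_O (F_nil M) k2 (pi1_of_pg (hSp.to_le (inf_le_left.trans h8)))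
    rw [O1_F] at k3
    exact h4 ((h.un k3 (nn_inf (h.mc.comm_fam hS hb').norm (nn_cc (nn_sup hS.norm hYf.norm))) k1).cc
      hYf (cc_symm (inf_le_right.trans (cc_anti le_sup_right))))
  rw [comm_eq_bot, cc_zpowers] at h9
  exact h.mc.noCent' hP h1 h.Os hb' h0 ((le_inf h1 (O_le _ _)).trans h9) ((le_inf inf_le_left
    ((h.mc.unO h.mx h.Os).cc (fam_inf hP.fam (nn_cc (nn_O hM.norm))) inf_le_right)).trans h9)

theorem false : False := by
  by_cases e : s = 2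
  · exact h.symm.false_of_odd fun e1 => h.ne (e.trans e1.symm)
  · exact h.false_of_odd e

end Two

theorem MC.two [hs : Fact s.Prime] [ht : Fact t.Prime] (h : MC r A θ) (hne : s ≠ t)
    (hpi : ∀ p : ℕ, p.Prime → p ∈ piT A θ → p = s ∨ p = t) (us : ULC r A θ s) (ut : ULC r A θ t) :
    False := by
  have hnc : ∀ M, Mx r A θ M → ¬ NC M := fun M hM e => Two.false ⟨h, hne, hpi, hM, e⟩
  by_cases e : Blk r A (Gam r A θ s)
  · exact h.blk_false e (us (h.lc_of_blk e hnc))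
  simp only [Blk, not_forall, not_exists, not_and] at e
  obtain ⟨B, hB, e⟩ := e
  have e1 : Blk r A (Gam r A θ t) := h.blk_of_line hB fun b hb h0 => by
    obtain ⟨M, hM, h1⟩ := exists_mx (h.th (hB.le hb) h0)
    obtain ⟨p, hp, h2, h3⟩ := h.mx_ch hM (hnc M hM)
    haveI := Fact.mk hp
    have h4 := (h.C_le (hB.le hb) h0).trans h1
    rcases hpi p hp (h.mem_piT hM.fam (O_le _ _) (O_pg M) h3) with rfl | rfl
    · exact absurd ⟨M, ⟨hM, h2, h4⟩, h1⟩ (e b hb h0)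
    · exact ⟨M, ⟨hM, h2, h4⟩, h1⟩
  exact h.blk_false e1 (ut (h.lc_of_blk e1 hnc))

end Cfsg.Agent.Sg
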