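/-
A minimal incomplete solvable signalizer functor involving at least three primes: good elements.
-/
import Cfsg.Agent.Lib.SSF.Two

set_option autoImplicit false
set_option linter.unusedSectionVars false
set_option linter.unusedVariables false
set_option linter.style.haveILetI false
set_option linter.unusedSimpArgs false

namespace Cfsg.Agent.Sg

open Subgroup Cfsg.Agent.Transfer Cfsg.Agent.MS
open _root_.Cfsg.Agent.Comp (SSF InFam MaxQ)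
open scoped commutatorElement

universe u
variable {G : Type u} [Group G] [Finite G]
variable {A B D E H K L M N P Q R S T U V W X Y Z : Subgroup G} {p q r s t v w : ℕ} {a b c : G}
variable {θ : G → Subgroup G} [hr : Fact r.Prime]

def H3 (A : Subgroup G) (θ : G → Subgroup G) : Prop :=
  ∀ s t : ℕ, ∃ p : ℕ, p.Prime ∧ p ∈ piT A θ ∧ p ≠ s ∧ p ≠ t

/-- the largest `{s,t}`-member invariant under the centralizer of `A` -/
structure Q2 (r : ℕ) (A : Subgroup G) (θ : G → Subgroup G) (s t : ℕ) (Q : Subgroup G) : Prop where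
  fam : InFam r A θ Q
  pi : IsPi {s, t} Q
  nn : signalizerInf A θ ≤ NN Q
  max : ∀ U, InFam r A θ U → IsPi {s, t} U → signalizerInf A θ ≤ NN U → U ≤ Q

theorem MC.exists_Q2 (h : MC r A θ) (h3 : H3 A θ) (s t : ℕ) : ∃ Q, Q2 r A θ s t Q := by
  obtain ⟨p, hp, h1, h2, h4⟩ := h3 s t
  obtain ⟨Q, k1, k2, k3, k4⟩ := h.exists_Q {s, t} hp (by simp [h2, h4]) h1
  exact ⟨Q, k1, k2, k3, k4⟩

theorem Q2.symm (h : Q2 r A θ s t Q) : Q2 r A θ t s Q :=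
  ⟨h.fam, Set.pair_comm s t ▸ h.pi, h.nn, Set.pair_comm s t ▸ h.max⟩

theorem Q2.le [Fact s.Prime] (h : Q2 r A θ s t Q) (hU : InFam r A θ U) (h1 : IsPGroup s U)
    (h2 : signalizerInf A θ ≤ NN U) : U ≤ Q := h.max U hU (pi_of_pg h1 (by simp)) h2

theorem Q2.O_le [Fact s.Prime] (h : Q2 r A θ s t Q) (hM : InFam r A θ M)
    (h2 : signalizerInf A θ ≤ M) : O {s} M ≤ Q :=
  h.le (fam_O hM _) (O_pg M) (nn_O (nn_of_le h2))

theorem Q2.O_bot (h : Q2 r A θ s t Q) (hp : p.Prime) (h1 : p ≠ s) (h2 : p ≠ t) : O {p} Q = ⊥ :=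
  haveI := Fact.mk hp
  eq_bot_of_le (pg_inf (O_pg Q) h.pi (by simp [h1, h2])) le_rfl (MS.O_le _ _)

structure Gd (r : ℕ) (A : Subgroup G) (θ : G → Subgroup G) (a : G) (s : ℕ) (X M : Subgroup G) :
    Prop where
  mem : a ∈ A
  ne1 : a ≠ 1
  fam : InFam r A θ X
  pg : IsPGroup s X
  ne : X ≠ ⊥
  nn : θ a ≤ NN X
  le : ∀ H, InFam r A θ H → X ≤ H → X ≤ O {s} H
  mx : Mx r A θ M
  un : Un r A θ X M

def Good (r : ℕ) (A : Subgroup G) (θ : G → Subgroup G) (a : G) : Prop :=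
  ∃ s : ℕ, s.Prime ∧ ∃ X M, Gd r A θ a s X M

def Bad (r : ℕ) (A : Subgroup G) (θ : G → Subgroup G) (b : G) : Prop :=
  ∀ s : ℕ, s.Prime → ∀ Z, InFam r A θ Z → IsPGroup s Z → θ b ≤ NN Z →
    (s ≠ 2 ∨ IsMulCommutative Z) → Z ≤ C1 b

theorem MC.bad_of (h : MC r A θ) (ha : a ∈ A) (h0 : a ≠ 1) (h1 : ¬ Good r A θ a) : Bad r A θ a :=
  fun s hs Z hZ h2 h3 h4 => by
    haveI := Fact.mk hs
    by_contra e
    have hX := h.comm_fam hZ ha
    have h5 : ⁅Z, zpowers a⁆ ≠ ⊥ := fun e1 => e (cc_zpowers a ▸ comm_eq_bot.1 e1)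
    have h6 : ⁅Z, zpowers a⁆ ≤ Z := comm_le_left (h.zp_nn hZ ha)
    have h7 : θ a ≤ NN ⁅Z, zpowers a⁆ := nn_comm h3 (h.th_nn_zp ha h0)
    obtain ⟨M, hM, h8⟩ := h.locM hX h5
    refine h1 ⟨s, hs, _, M, ha, h0, hX, h2.to_le h6, h5, h7, fun H hH h9 => ?_, hM, h8⟩
    exact gold hH.solv (h.zp_nn hH ha) (h.zp_prime ha h0) (h.cop_zp hH ha) (h2.to_le h6) h9
      (h.zp_nn hX ha) (h.comm_comm hZ ha) (cc_zpowers a ▸ (hH.le a ha h0).trans h7)
      (h4.imp_right fun e => ab_mono e h6)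

namespace Gd
variable (g : Gd r A θ a s X M)
include g

theorem leM : X ≤ M := g.un X g.fam (le_nn _)
theorem leO : X ≤ O {s} M := g.le M g.mx.fam g.leM
theorem O_ne : O {s} M ≠ ⊥ := fun e => g.ne (le_bot_iff.1 (e ▸ g.leO))
theorem th (h : MC r A θ) : θ a ≤ M := g.un _ (h.th g.mem g.ne1) g.nn
theorem C_nn (h : MC r A θ) : signalizerInf A θ ≤ NN X := (h.C_le g.mem g.ne1).trans g.nn
theorem C (h : MC r A θ) : signalizerInf A θ ≤ M := (h.C_le g.mem g.ne1).trans (g.th h)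
theorem leQ [Fact s.Prime] (h : MC r A θ) (hQ : Q2 r A θ s t Q) : X ≤ O {s} Q :=
  g.le Q hQ.fam (hQ.le g.fam g.pg (g.C_nn h))

/-- `O_s` of the largest `{s,v}`-member centralizes `O_v(M)` -/
theorem cc [Fact s.Prime] [Fact v.Prime] (h : MC r A θ) (hQ : Q2 r A θ s v Q) (e : v ≠ s) :
    O {s} Q ≤ CC (O {v} M) :=
  h.pq (fam_O hQ.fam _) (O_pg Q) g.pg g.fam.norm g.un (O_le_Oc e M)
    (((g.leQ h hQ).trans (O_le _ _)).trans (by nrm))
    ((hQ.symm.O_le g.mx.fam (g.C h)).trans (by nrm)) (g.leO.trans (O_cc_O' e.symm M))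

end Gd

namespace MC
variable (h : MC r A θ) (h3 : H3 A θ)
include h h3

theorem gd_ne [hs : Fact s.Prime] [ht : Fact t.Prime] (g : Gd r A θ a s X M) (g' : Gd r A θ b t Y N)
    (e : s ≠ t) : NC M ∧ N = M := by
  obtain ⟨Q, hQ⟩ := h.exists_Q2 h3 s t
  have h1 : X ≤ CC Y := (g.leQ h hQ).trans ((O_cc_O' e Q).trans (cc_anti (g'.leQ h hQ.symm)))
  have h2 := g.le N g'.mx.fam (g'.un.cc g.fam h1)
  have h4 := g'.le M g.mx.fam (g.un.cc g'.fam (cc_symm h1))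
  have h5 := nc_of hs.out ht.out e g.O_ne fun e => g'.ne (le_bot_iff.1 (e ▸ h4))
  exact ⟨h5, h.bp g.mx h5 g'.mx (g'.un.zf g.mx.fam h4) fun w hw e1 => g.un.cc (fam_O g'.mx.fam _)
    ((O_cc_O' (fun e2 : w = s => g.O_ne (e2 ▸ e1)) N).trans (cc_anti h2))⟩

theorem gd_cc [hs : Fact s.Prime] (g : Gd r A θ a s X M) (g' : Gd r A θ b s Y N) (hv : v.Prime)
    (e : v ≠ s) : O {v} N ≤ CC X := by
  haveI := Fact.mk hv
  obtain ⟨Q, hQ⟩ := h.exists_Q2 h3 s v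
  exact cc_symm ((g.leQ h hQ).trans (g'.cc h hQ e))

theorem gd_same [hs : Fact s.Prime] (g : Gd r A θ a s X M) (g' : Gd r A θ b s Y N) (hc : NC M) :
    N = M := by
  obtain ⟨t, ht, e, h1⟩ := hc.exists g.mx.fam.solv hs.out
  have h2 := g'.le M g.mx.fam ((h.unO g.mx h1).cc g'.fam (cc_symm (h.gd_cc h3 g' g ht e)))
  exact h.bp g.mx hc g'.mx (g'.un.zf g.mx.fam h2) fun w hw e1 => g.un.cc (fam_O g'.mx.fam _)
    (h.gd_cc h3 g g' hw fun e2 => g.O_ne (e2 ▸ e1))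

theorem good_blk (hp : ∀ s : ℕ, s.Prime → PP r A θ s) (hb : Blk r A (Good r A θ)) : False := by
  by_cases e : ∃ a s X M, s.Prime ∧ Gd r A θ a s X M ∧ NC M
  · obtain ⟨a, s, X, M, hs, g, hc⟩ := e
    haveI := Fact.mk hs
    refine h.block g.mx.fam fun B hB => ?_
    obtain ⟨b, h1, h2, t, ht, Y, N, g'⟩ := hb B hB
    haveI := Fact.mk ht
    refine ⟨b, h1, h2, (g'.th h).trans (le_of_eq ?_)⟩
    by_cases e : s = t
    · subst e; exact h.gd_same h3 g g' hc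
    · exact (h.gd_ne h3 g g' e).2
  simp only [not_exists, not_and] at e
  obtain ⟨B0, hB0⟩ := h.exists_line'
  obtain ⟨a, -, -, s, hs, X0, M0, g0⟩ := hb B0 hB0
  haveI := Fact.mk hs
  have k1 : ∀ B, El r 2 B A → ∃ b ∈ B, ∃ Y N, Gd r A θ b s Y N ∧ CM r A θ s N := fun B hB => by
    obtain ⟨b, h1, h2, t, ht, Y, N, g'⟩ := hb B hB
    haveI := Fact.mk ht
    obtain rfl : s = t := by_contra fun e1 => e _ _ _ _ hs g0 (h.gd_ne h3 g0 g' e1).1
    exact ⟨b, h1, Y, N, g', g'.mx, ch_of_not_nc hs (e _ _ _ _ hs g') g'.O_ne, g'.C h⟩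
  obtain ⟨P, hP⟩ := h.exists_Q2 h3 s s
  obtain ⟨N, hN, k2⟩ := exists_mx (h.sup hP.fam h.famC hP.nn)
  have k3 : ∀ M, CM r A θ s M → O {s} M ≤ N := fun M hM =>
    (hP.O_le hM.mx.fam hM.C).trans (le_sup_left.trans k2)
  have k4 : CM r A θ s N := ⟨hN, le_bot_iff.1 (h.gen_hyp (fam_O hN.fam _) fun B hB => by
    obtain ⟨b, h1, Y, L, g, hL⟩ := k1 B hB
    exact (ch_bot' hL.mx.fam.solv hL.ch (((inf_le_inf_left _ (cc_le_C1 h1)).trans
      ((fam_O hN.fam _).le b g.mem g.ne1)).trans (g.th h)) inf_le_left (O_pi _ _)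
      ((k3 L hL).trans (by nrm))).le), le_sup_right.trans k2⟩
  refine h.block hN.fam fun B hB => ?_
  obtain ⟨b, h1, Y, L, g, hL⟩ := k1 B hB
  exact ⟨b, h1, g.ne1, (g.th h).trans (hp s hs L N hL k4 (k3 L hL) (g.un.cc (fam_ZO hN.fam _)
    (ZO_cc (g.le N hN.fam (g.leO.trans (k3 L hL)))))).le⟩

end MC

end Cfsg.Agent.Sg
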