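/-
A minimal incomplete solvable signalizer functor involving at least three primes: bad elements.
-/
import Cfsg.Agent.Lib.SSF.Three

set_option autoImplicit false
set_option linter.unusedSectionVars false
set_option linter.unusedVariables false
set_option linter.style.haveILetI false
set_option linter.unusedSimpArgs false

namespace Cfsg.Agent.Sg

open Subgroup Cfsg.Agent.Transfer Cfsg.Agent.MS
open _root_.Cfsg.Agent.Comp (SSF InFam MaxQ)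
open scoped commutatorElement

universe u
variable {G : Type u} [Group G] [Finite G]
variable {A B D E H K L M N P Q R S T U V W X Y Z : Subgroup G} {p q r s t v w : ℕ} {a b c : G}
variable {θ : G → Subgroup G} [hr : Fact r.Prime]

theorem comm_cc (h1 : M ≤ NN X) (h2 : Z ≤ CC X) : ⁅M, Z⁆ ≤ CC X :=
  (commutator_mono le_rfl h2).trans (comm_le_right (nn_cc h1))

theorem comm_cc' (h1 : M ≤ NN X) (h2 : Z ≤ CC X) : ⁅Z, M⁆ ≤ CC X := commutator_comm M Z ▸ comm_cc h1 h2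

theorem pg_le_of_syl [Fact p.Prime] (hs : Group.IsSolvable K) (hR : R ≤ NN K) (hc : (#R).Coprime #K)
    (hK : ⁅K, R⁆ = K) (hT : IsSyl p T K) (h0 : D ≤ K) (h1 : K ≤ NN D) (h2 : R ≤ NN D)
    (h3 : ⁅T, R⁆ ≤ D) (h4 : X ≤ K) (hX : IsPGroup p X) : X ≤ D := by
  obtain ⟨Q, _, _, f, q⟩ := exists_qm (M := K ⊔ R) (h0.trans le_sup_left) (sup_le h1 h2)
  have h5 := comm_le_O_of_syl (im_sol (f := f) hs le_sup_left) (im_nn le_sup_right le_sup_left hR)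
    (im_coprime hc le_sup_right le_sup_left) (im_syl hT le_sup_left)
    ((q.cc_iff (hT.le.trans le_sup_left) le_sup_right).2 h3)
  rw [← im_comm le_sup_left le_sup_right, hK] at h5
  exact (q.im_eq_bot (h4.trans le_sup_left)).1 (eq_bot_of_le (pg_inf (im_pg hX) (O_pi _ _)
    (by simp)) le_rfl ((im_mono h4).trans h5))

structure T2 (r : ℕ) (A : Subgroup G) (θ : G → Subgroup G) (b : G) (M : Subgroup G) : Prop where
  mc : MC r A θ
  h3 : H3 A θ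
  mem : b ∈ A
  ne1 : b ≠ 1
  bad : Bad r A θ b
  mx : Mx r A θ M
  nc : NC M
  th : θ b ≤ M

theorem Bad.O (h : Bad r A θ b) (hM : InFam r A θ M) (h1 : θ b ≤ M) (hp : p.Prime) (h2 : p ≠ 2) :
    O {p} M ≤ C1 b :=
  haveI := Fact.mk hp
  h p hp _ (fam_O hM _) (O_pg M) (h1.trans (by nrm)) (.inl h2)

theorem Bad.not_le (h : Bad r A θ b) (mc : MC r A θ) (hb : b ∈ A) (h0 : b ≠ 1) (hM : Mx r A θ M)
    (h1 : θ b ≤ M) : ¬ O {2} M ≤ C1 b := fun e =>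
  mc.F_not_cent hM hb h0 (F_le_of_O fun q hq _ => by
    by_cases e1 : q = 2
    exacts [e1 ▸ e, h.O hM.fam h1 hq e1])

namespace T2
variable (h : T2 r A θ b M)
include h

theorem fam : InFam r A θ M := h.mx.fam
theorem C : signalizerInf A θ ≤ M := (h.mc.C_le h.mem h.ne1).trans h.th
theorem famK : InFam r A θ ⁅M, zpowers b⁆ := h.mc.comm_fam h.fam h.mem
theorem K_le : ⁅M, zpowers b⁆ ≤ M := comm_le_left (h.mc.zp_nn h.fam h.mem)
theorem K_cc (h1 : M ≤ NN X) (h2 : X ≤ C1 b) : ⁅M, zpowers b⁆ ≤ CC X :=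
  comm_cc h1 (cc_symm (cc_zpowers b ▸ h2))
theorem K_O (hp : p.Prime) (h2 : p ≠ 2) : ⁅M, zpowers b⁆ ≤ CC (O {p} M) :=
  h.K_cc (by nrm) (h.bad.O h.fam h.th hp h2)
theorem K_Z : ⁅M, zpowers b⁆ ≤ CC (ZO 2 M) :=
  h.K_cc (nn_ZO (le_nn _)) (h.bad 2 Nat.prime_two _ (fam_ZO h.fam _) (ZO_pg M)
    (h.th.trans (nn_ZO (le_nn _))) (.inr (ab_center _)))
theorem R_ne : O {2} M ≠ ⊥ := fun e => h.bad.not_le h.mc h.mem h.ne1 h.mx h.th (e ▸ bot_le)
theorem odd : ∃ p : ℕ, p.Prime ∧ p ≠ 2 ∧ O {p} M ≠ ⊥ := h.nc.exists h.fam.solv Nat.prime_two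

theorem cR (hL : InFam r A θ L) (h1 : L ≤ CC (O {2} M)) : L ≤ C1 b := by
  have h2 := (h.mc.unO h.mx h.R_ne).cc hL h1
  have h3 : ⁅L, zpowers b⁆ ≤ CC (F M) := cc_symm (F_le_of_O fun q hq _ => cc_symm (by
    by_cases e : q = 2
    · exact e ▸ comm_cc' (h.mc.zp_nn (fam_O h.fam _) h.mem) h1
    · exact (commutator_mono h2 le_rfl).trans (h.K_O hq e)))
  have hZ : InFam r A θ (F M ⊓ CC (F M)) := fam_inf (fam_F h.fam) (nn_cc (nn_F h.fam.norm))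
  refine h.mc.le_C1_of_comm hL h.mem ((le_inf ((le_inf ((commutator_mono h2 le_rfl).trans h.K_le)
    h3).trans (cc_F_le h.fam.solv)) h3).trans (nil_le_of_O (nil_of_ab (ab_center _)) fun q hq _ => ?_))
  haveI := Fact.mk hq
  exact h.bad q hq _ (fam_O hZ _) (O_pg _) (h.th.trans (by nrm)) (.inr (ab_mono (ab_center _) (O_le _ _)))

theorem le_of_K [Fact w.Prime] (hV : InFam r A θ V) (hw : IsPGroup w V) (h0 : O {w} M = ⊥)
    (h1 : ⁅M, zpowers b⁆ ≤ NN V) : V ≤ M := by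
  by_cases hV0 : V = ⊥
  · rw [hV0]; exact bot_le
  obtain ⟨p, hp, h2, h3⟩ := h.odd
  haveI := Fact.mk hp
  obtain ⟨S, h4, hS⟩ := Comp.exists_maxQ_ge (fam_O h.fam {p}) (O_pg M)
  have hK := h.famK
  have hT := h.mc.syl_inf hS hK (nn_comm (nn_of_le h.C)
    ((h.mc.C_le h.mem h.ne1).trans (h.mc.th_nn_zp h.mem h.ne1)))
  have hTf : InFam r A θ (S ⊓ ⁅M, zpowers b⁆) := fam_inf hS.fam hK.norm
  have h5 : S ⊓ ⁅M, zpowers b⁆ ≠ ⊥ := fun e =>
    h.mc.noCent' hS h4 h3 h.mem h.ne1 (h.bad.O h.fam h.th hp h2) ((le_inf inf_le_left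
      ((h.mc.unO h.mx h3).cc (fam_inf hS.fam (nn_cc (nn_O h.fam.norm))) inf_le_right)).trans (by
        rw [← cc_zpowers, ← comm_eq_bot, ← le_bot_iff, ← e]
        exact le_inf ((commutator_mono inf_le_left le_rfl).trans
          (comm_le_left (h.mc.zp_nn hS.fam h.mem))) (commutator_mono inf_le_right le_rfl)))
  have h6 : V ⊓ ⁅M, zpowers b⁆ = ⊥ := le_bot_iff.1 (h0 ▸ (le_O inf_le_right (nn_inf h1 (le_nn _))
    (pi1_of_pg (hw.to_le inf_le_left))).trans (O_le_O h.K_le (left_nn_comm _ _)))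
  have h7 : V ⊓ C1 b ≤ CC ⁅M, zpowers b⁆ := cc_of_le inf_le_left
    (((hV.le b h.mem h.ne1).trans h.th).trans (left_nn_comm _ _)) h1 h6
  have h8 : ⁅S ⊓ ⁅M, zpowers b⁆, zpowers b⁆ ≤ CC V :=
    gl hw hTf.solv (h.mc.zp_nn hTf h.mem) (inf_le_right.trans h1) (h.mc.zp_nn hV h.mem)
      (h.mc.zp_prime h.mem h.ne1) (h.mc.cop_zp hTf h.mem)
      (pi_of_pg hT.pgroup fun e => h3 ((show p = w from e) ▸ h0))
      (h.mc.zp_pi h.mem (fam_ne_r hV le_rfl hw hV0)) (.inl (BG.odd_of_isPGroup h2 hT.pgroup))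
      (cc_zpowers b ▸ h7.trans (cc_anti ((comm_le_left (h.mc.zp_nn hTf h.mem)).trans inf_le_right)))
  have h9 : ∀ X ≤ ⁅M, zpowers b⁆, IsPGroup p X → X ≤ ⁅M, zpowers b⁆ ⊓ CC V := fun X h9 hX =>
    pg_le_of_syl hK.solv (h.mc.zp_nn hK h.mem) (h.mc.cop_zp hK h.mem) (h.mc.comm_comm h.fam h.mem) hT
      inf_le_left (nn_inf (le_nn _) (nn_cc h1))
      (nn_inf (h.mc.zp_nn hK h.mem) (nn_cc (h.mc.zp_nn hV h.mem)))
      (le_inf ((comm_le_left (h.mc.zp_nn hTf h.mem)).trans inf_le_right) h8) h9 hX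
  have h10 := ncl_le (M := M) (h9 _ hT.le hT.pgroup) fun g hg =>
    h9 _ (cj_le hT.le (left_nn_comm _ _ hg)) (hT.pgroup.map _)
  exact (h.mc.un h.mx (h10.trans (inf_le_left.trans h.K_le)) (nn_ncl _ _)
    (nn_sup hTf.norm (nn_comm hTf.norm h.fam.norm)) fun e => h5 (le_bot_iff.1 (e ▸ le_sup_left))).cc hV
    (cc_symm (h10.trans inf_le_right))

theorem eq_of_K (hN : Mx r A θ N) (h1 : ZF M N) (h2 : ⁅M, zpowers b⁆ ≤ N) : N = M :=
  h.mc.bp h.mx h.nc hN h1 fun w hw e =>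
    haveI := Fact.mk hw
    h.le_of_K (fam_O hN.fam _) (O_pg N) e (h2.trans (by nrm))

theorem un (h1 : U ≤ O {p} M) (h2 : A ≤ NN U) (h0 : U ≠ ⊥) (h3 : ⁅M, zpowers b⁆ ≤ CC U) :
    Un r A θ U M := by
  obtain ⟨N, hN, h4⟩ := h.mc.locM (h.fam.of_le (h1.trans (O_le _ _)) h2) h0
  exact h.eq_of_K hN (h4.zf h.fam h1) (h4.cc h.famK h3) ▸ h4

theorem unO (hp : p.Prime) (e : p ≠ 2) (h1 : U ≤ O {p} M) (h2 : A ≤ NN U) (h0 : U ≠ ⊥) :
    Un r A θ U M := h.un h1 h2 h0 ((h.K_O hp e).trans (cc_anti h1))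

/-- a nontrivial subgroup of `O_2(M)` normalized by `O_2(M)` -/
theorem unZ (h1 : U ≤ O {2} M) (h2 : A ≤ NN U) (h0 : U ≠ ⊥) (h3 : O {2} M ≤ NN U) :
    Un r A θ (U ⊓ CC (O {2} M)) M :=
  h.un (inf_le_left.trans h1) (nn_inf h2 (nn_cc (nn_O h.fam.norm)))
    (nil_meet (nil_of_pg (O_pg (p := 2) M)) h1 h3 h0) (h.K_Z.trans (cc_anti (inf_le_inf_right _ h1)))

theorem Q_le [hp : Fact p.Prime] (e : p ≠ 2) (h0 : O {p} M ≠ ⊥) (hQ : Q2 r A θ 2 p Q) : Q ≤ M := by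
  have h1 := hQ.O_le h.fam h.C
  have h2 := hQ.symm.O_le h.fam h.C
  have h3 : O {2} Q ≤ CC (O {p} M) :=
    h.mc.pq (fam_O hQ.fam _) (O_pg Q) (O_pg M) (nn_O h.fam.norm) (h.mc.unO h.mx h.R_ne) (O_le_Oc e M)
      (h1.trans (by nrm)) (h2.trans (by nrm)) (O_cc_O' e.symm M)
  have h4 : O {p} Q ≤ CC (O {2} M) :=
    h.mc.pq (fam_O hQ.fam _) (O_pg Q) (O_pg M) (nn_O h.fam.norm) (h.mc.unO h.mx h0) (O_le_Oc e.symm M)
      (h2.trans (by nrm)) (h1.trans (by nrm)) (O_cc_O' e M)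
  have h5 := (h.mc.unO h.mx h.R_ne).cc (fam_O hQ.fam _) h4
  have h6 : O {p} Q ⊓ O {p} M ≠ ⊥ := fun e1 => by
    have k1 : O {p} M ≤ F Q := (le_inf h2 (cc_symm (F_le_of_O fun q hq _ => by
      by_cases e2 : q = 2
      · exact e2 ▸ h3
      by_cases e3 : q = p
      · rw [e3]; exact cc_of_inf_eq_bot (h5.trans (by nrm)) (h2.trans (by nrm)) e1
      · rw [hQ.O_bot hq e2 e3]; exact bot_le))).trans (cc_F_le hQ.fam.solv)
    exact h0 (eq_bot_of_le e1 (O1_F (p := p) Q ▸ nil_le_O (F_nil Q) k1 (O_pi _ _)) le_rfl)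
  refine h.mc.le_of_comm hQ.fam h.mem h.ne1 ((h.unO hp.out e inf_le_right
    (nn_inf (nn_O hQ.fam.norm) (nn_O h.fam.norm)) h6).cc (h.mc.comm_fam hQ.fam h.mem) ?_) h.th
  exact (comm_cc (by nrm) (cc_symm (cc_zpowers b ▸ h.cR (fam_O hQ.fam _) h4))).trans
    (cc_anti inf_le_left)

theorem two_le (hU : InFam r A θ U) (h1 : IsPGroup 2 U) (h2 : signalizerInf A θ ≤ NN U) : U ≤ M := by
  obtain ⟨p, hp, e, h3⟩ := h.odd
  haveI := Fact.mk hp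
  obtain ⟨Q, hQ⟩ := h.mc.exists_Q2 h.h3 2 p
  exact (hQ.le hU h1 h2).trans (h.Q_le e h3 hQ)

theorem R_le (hN : InFam r A θ N) (h1 : signalizerInf A θ ≤ N) : O {2} N ≤ M :=
  h.two_le (fam_O hN _) (O_pg N) (nn_O (nn_of_le h1))

theorem K_le_th (h' : T2 r A θ c N) (e : O {2} N ≤ CC (O {2} M)) : ⁅N, zpowers c⁆ ≤ θ b := by
  have h1 : ⁅N, zpowers b⁆ ≤ CC (zpowers c) := cc_zpowers c ▸ h'.cR (h.mc.comm_fam h'.fam h.mem)
    (comm_cc (by nrm) (cc_symm (cc_zpowers b ▸ h.cR (fam_O h'.fam _) e)))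
  have h2 : ⁅⁅zpowers c, N⁆, zpowers b⁆ ≤ ⊥ := three_sub nn_bot nn_bot nn_bot
    (comm_eq_bot.2 h1).le (by
      rw [comm_eq_bot.2 (ab_le_cc h.mc.ab (zpowers_le.2 h.mem) (zpowers_le.2 h'.mem)),
        commutator_bot_left])
  rw [le_bot_iff, comm_eq_bot, cc_zpowers, commutator_comm] at h2
  exact (le_inf le_rfl h2).trans (h'.famK.le b h.mem h.ne1)

theorem F_le (h' : T2 r A θ c N) (e : O {2} M ≤ CC (O {2} N)) : F N ≤ M := F_le_of_O fun q hq _ => by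
  haveI := Fact.mk hq
  by_cases e1 : q = 2
  · exact e1 ▸ h.R_le h'.fam h'.C
  by_cases e2 : O {q} M = ⊥
  · exact h.le_of_K (fam_O h'.fam _) (O_pg N) e2 (((h'.K_le_th h e).trans h'.th).trans (by nrm))
  · obtain ⟨Q, hQ⟩ := h.mc.exists_Q2 h.h3 2 q
    exact (hQ.symm.O_le h'.fam h'.C).trans (h.Q_le e1 e2 hQ)

theorem eq (h' : T2 r A θ c N) : N = M := by
  have h1 := h.R_le h'.fam h'.C
  have h2 := h'.R_le h.fam h.C
  by_cases e : O {2} M ⊓ O {2} N = ⊥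
  · have e1 := cc_of_inf_eq_bot (h2.trans (by nrm)) (h1.trans (by nrm)) e
    exact h.mc.bm h.mx h'.mx h.nc (h'.F_le h (cc_symm e1)) (h.F_le h' e1)
  have h3 : A ≤ NN (O {2} M ⊓ O {2} N : Subgroup G) := nn_inf (nn_O h.fam.norm) (nn_O h'.fam.norm)
  refine h.mc.bp h.mx h.nc h'.mx ((h'.unZ inf_le_right h3 e
    (nn_inf (h1.trans (by nrm)) (le_nn _))).zf h.fam (inf_le_left.trans inf_le_left)) fun w hw e1 => ?_
  exact (h.unZ inf_le_left h3 e (nn_inf (le_nn _) (h2.trans (by nrm)))).cc (fam_O h'.fam _)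
    ((O_cc_O' (fun e2 : w = 2 => h.R_ne (e2 ▸ e1)) N).trans (cc_anti (inf_le_left.trans inf_le_right)))

end T2

theorem Gam.bot [Fact s.Prime] (h : Gam r A θ s c) (hc : c ∈ A) (h0 : c ≠ 1) (hV : InFam r A θ V)
    (h1 : IsPi {s}ᶜ V) (h2 : ∀ N, InFam r A θ N → signalizerInf A θ ≤ N → O {s} N ≤ NN V) :
    V ⊓ C1 c = ⊥ := by
  obtain ⟨N, hN, h3⟩ := h
  exact ch_bot' hN.mx.fam.solv hN.ch ((hV.le c hc h0).trans h3) inf_le_left h1 (h2 N hN.mx.fam hN.C)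

theorem Gam.botQ [Fact s.Prime] [Fact p.Prime] (h : Gam r A θ s c) (hc : c ∈ A) (h0 : c ≠ 1)
    (hQ : Q2 r A θ s p Q) (e : p ≠ s) : O {p} Q ⊓ C1 c = ⊥ :=
  h.bot hc h0 (fam_O hQ.fam _) (pi_of_pg (O_pg Q) e) fun N hN h1 => (hQ.O_le hN h1).trans (by nrm)

namespace MC
variable (h : MC r A θ) (h3 : H3 A θ)
include h h3

theorem bad_or (hb : b ∈ A) (h0 : b ≠ 1) (h1 : Bad r A θ b) :
    (∃ M, T2 r A θ b M) ∨ Gam r A θ 2 b := by
  obtain ⟨M, hM, h2⟩ := exists_mx (h.th hb h0)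
  by_cases e : NC M
  · exact .inl ⟨M, h, h3, hb, h0, h1, hM, e, h2⟩
  · exact .inr ⟨M, ⟨hM, ch_of_not_nc Nat.prime_two e fun e => h1.not_le h hb h0 hM h2 (e ▸ bot_le),
      (h.C_le hb h0).trans h2⟩, h2⟩

theorem good_le (hB : El r 2 B A) (h1 : ∀ c ∈ B, c ≠ 1 → Bad r A θ c) (τ : T2 r A θ b M)
    [hs : Fact s.Prime] (g : Gd r A θ a s X N) : θ a ≤ M := by
  by_cases e : s = 2
  · subst e
    have h2 := g.le M τ.fam (τ.two_le g.fam g.pg (g.C_nn h))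
    refine (g.th h).trans (h.bp τ.mx τ.nc g.mx (g.un.zf τ.fam h2) fun w hw e1 => ?_).le
    haveI := Fact.mk hw
    obtain ⟨Q, hQ⟩ := h.exists_Q2 h3 2 w
    exact (τ.unZ (U := O {2} M ⊓ O {2} Q) inf_le_left (nn_inf (nn_O τ.fam.norm) (nn_O hQ.fam.norm))
      (fun e => g.ne (eq_bot_of_le e h2 (g.leQ h hQ)))
      (nn_inf (le_nn _) ((hQ.O_le τ.fam τ.C).trans (by nrm)))).cc (fam_O g.mx.fam _)
      (cc_symm ((inf_le_left.trans inf_le_right).trans (g.cc h hQ fun e2 => τ.R_ne (e2 ▸ e1))))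
  · obtain ⟨Q, hQ⟩ := h.exists_Q2 h3 2 s
    have h2 : O {s} Q ≤ M := h.gen_line (fam_O hQ.fam _) hB fun c hc h0 => by
      rcases h.bad_or h3 (hB.le hc) h0 (h1 c hc h0) with ⟨L, τ'⟩ | hg
      · exact ((fam_O hQ.fam _).le c (hB.le hc) h0).trans (τ'.th.trans (τ.eq τ').le)
      · rw [hg.botQ (hB.le hc) h0 hQ e]; exact bot_le
    exact τ.unO hs.out e (g.le M τ.fam ((g.leQ h hQ.symm).trans h2)) g.fam.norm g.ne _
      (h.th g.mem g.ne1) g.nn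

theorem not_T2 (hB : El r 2 B A) (h1 : ∀ c ∈ B, c ≠ 1 → Bad r A θ c) (τ : T2 r A θ b M) : False := by
  obtain ⟨p, hp, e, h2⟩ := τ.odd
  haveI := Fact.mk hp
  obtain ⟨D, hD, h4⟩ := h.exists_line (fam_O τ.fam {p}) (X := ⊥) (by simpa using h2)
  refine h.line τ.fam hD fun a ha h0 => ?_
  by_cases hg : Good r A θ a
  · obtain ⟨s, hs, X, N, g⟩ := hg
    haveI := Fact.mk hs
    exact h.good_le h3 hB h1 τ g
  rcases h.bad_or h3 (hD.le ha) h0 (h.bad_of (hD.le ha) h0 hg) with ⟨L, τ'⟩ | hg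
  · exact τ'.th.trans (τ.eq τ').le
  · exact absurd ((inf_le_inf_left _ (cc_le_C1 ha)).trans (hg.bot (hD.le ha) h0 (fam_O τ.fam _)
      (pi_of_pg (O_pg M) e) fun N hN h5 => (τ.R_le hN h5).trans (by nrm)).le) h4

omit h3 in
theorem lc_of_all [Fact s.Prime] (h1 : ∀ a ∈ A, a ≠ 1 → Gam r A θ s a) : LC r A θ s :=
  fun U N hU hs h0 hN h2 h4 => by
    have hZ := fam_inf hU (nn_cc hU.norm)
    obtain ⟨B, hB, h5⟩ := h.exists_line hZ (X := ⊥)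
      (by simpa using nil_meet (nil_of_pg hs) le_rfl (le_nn _) h0)
    set V := U ⊓ CC U ⊓ CC B with hV
    have hVf : InFam r A θ V := fam_inf hZ (nn_cc (h.nn_sub hB.le))
    have hVs : IsPGroup s V := hs.to_le (inf_le_left.trans inf_le_left)
    obtain ⟨L, hL, h6, h7⟩ := h.loc hVf (by simpa using h5)
    have h8 : O {s}ᶜ L = ⊥ := le_bot_iff.1 (h.gen_line (fam_O hL _) hB fun b hb h0 => by
      obtain ⟨M, hM, h8⟩ := h1 b (hB.le hb) h0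
      have e : L ⊓ M = M ⊓ NN V := le_antisymm (le_inf inf_le_right (inf_le_left.trans h6))
        (le_inf (h7 _ (fam_inf hM.mx.fam (nn_nn hVf.norm)) inf_le_right) inf_le_left)
      rw [← hM.ch]
      refine le_trans ?_ (O_nn_le hM.mx.fam.solv hVs (((le_inf le_rfl (inf_le_right.trans
        (cc_le_C1 hb))).trans (hVf.le b (hB.le hb) h0)).trans h8))
      rw [← e]
      exact le_trans (le_inf inf_le_left (le_inf (inf_le_left.trans (O_le _ _))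
        (((fam_O hL _).le b (hB.le hb) h0).trans h8))) (O_inf_le inf_le_left))
    have h9 : U ≤ N := h4 U hU (le_nn _)
    have h10 : O {s}ᶜ N ≤ CC U := cc_of_le le_rfl ((O_le _ _).trans h2) (h9.trans (by nrm))
      ((inf_comm _ _).trans (pg_inf hs (O_pi _ _) (by simp)))
    rw [← le_bot_iff, ← h8]
    exact le_O_of_cent hL.solv hs (h7.cc hU (cc_symm (inf_le_left.trans inf_le_right)))
      (h4.cc (fam_inf hL (nn_cc hU.norm)) inf_le_right) le_rfl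
      (h7.cc (fam_O hN _) (h10.trans (cc_anti (inf_le_left.trans inf_le_left)))) h10

theorem three (hp : ∀ s : ℕ, s.Prime → PP r A θ s) (hu : ULC r A θ 2) : False := by
  by_cases e : Blk r A (Good r A θ)
  · exact h.good_blk h3 hp e
  simp only [Blk, not_forall, not_exists, not_and] at e
  obtain ⟨B, hB, e⟩ := e
  have h1 : ∀ c ∈ B, c ≠ 1 → Bad r A θ c := fun c hc h0 => h.bad_of (hB.le hc) h0 (e c hc h0)
  have h2 : ∀ c ∈ A, c ≠ 1 → Bad r A θ c → Gam r A θ 2 c := fun c hc h0 hb =>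
    (h.bad_or h3 hc h0 hb).resolve_left fun ⟨M, τ⟩ => h.not_T2 h3 hB h1 τ
  have h4 : ∀ w Q, w.Prime → w ≠ 2 → Q2 r A θ 2 w Q → O {w} Q = ⊥ := fun w Q hw e hQ =>
    haveI := Fact.mk hw
    le_bot_iff.1 (h.gen_line (fam_O hQ.fam _) hB fun c hc h0 =>
      ((h2 c (hB.le hc) h0 (h1 c hc h0)).botQ (hB.le hc) h0 hQ e).le)
  have h5 : ∀ a ∈ A, a ≠ 1 → Gam r A θ 2 a := fun a ha h0 => by
    by_cases hg : Good r A θ a
    swap
    · exact h2 a ha h0 (h.bad_of ha h0 hg)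
    obtain ⟨s, hs, X, N, g⟩ := hg
    haveI := Fact.mk hs
    obtain rfl : s = 2 := by
      by_contra e
      obtain ⟨Q, hQ⟩ := h.exists_Q2 h3 2 s
      exact g.ne (le_bot_iff.1 (h4 s Q hs e hQ ▸ g.leQ h hQ.symm))
    refine ⟨N, ⟨g.mx, by_contra fun e => ?_, g.C h⟩, g.th h⟩
    obtain ⟨w, hw, e1, e2⟩ := exists_O g.mx.fam.solv e
    haveI := Fact.mk hw
    obtain ⟨Q, hQ⟩ := h.exists_Q2 h3 2 w
    refine e2 (ch_bot hQ.fam.solv (by_contra fun e => ?_) (hQ.symm.O_le g.mx.fam (g.C h))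
      (pi_of_pg (O_pg N) e1) (cc_symm (g.cc h hQ e1)))
    obtain ⟨q, hq, e3, e4⟩ := exists_O hQ.fam.solv e
    by_cases e5 : q = w
    · exact e4 (e5 ▸ h4 w Q hw e1 hQ)
    · exact e4 (hQ.O_bot hq e3 e5)
  obtain ⟨D, hD⟩ := h.exists_line'
  exact h.blk_false (h.blk_of_line hD fun a ha h0 => h5 a (hD.le ha) h0) (hu (h.lc_of_all h5))

omit h3 in
theorem false_of (hp : ∀ s : ℕ, s.Prime → PP r A θ s) (hu : ∀ s : ℕ, s.Prime → ULC r A θ s) :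
    False := by
  by_cases h3 : H3 A θ
  · exact h.three h3 hp (hu 2 Nat.prime_two)
  simp only [H3, not_forall, not_exists, not_and, not_not] at h3
  obtain ⟨s, t, h3⟩ := h3
  obtain ⟨s', t', h1, h2, h4, h5⟩ : ∃ s' t' : ℕ, s'.Prime ∧ t'.Prime ∧ s' ≠ t' ∧
      ∀ p : ℕ, p.Prime → (p = s ∨ p = t) → p = s' ∨ p = t' := by
    have k : ∀ s : ℕ, ∃ s' t' : ℕ, s'.Prime ∧ t'.Prime ∧ s' ≠ t' ∧
        ∀ p : ℕ, p.Prime → p = s → p = s' ∨ p = t' := fun s => by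
      by_cases e : s.Prime ∧ s ≠ 2
      · exact ⟨s, 2, e.1, Nat.prime_two, e.2, fun p _ e => .inl e⟩
      · exact ⟨2, 3, Nat.prime_two, Nat.prime_three, by norm_num, fun p hp e1 =>
          .inl (by_contra fun e2 => e (e1 ▸ ⟨hp, e2⟩))⟩
    by_cases e : s.Prime ∧ t.Prime ∧ s ≠ t
    · exact ⟨s, t, e.1, e.2.1, e.2.2, fun p _ e => e⟩
    by_cases e1 : s.Prime
    · obtain ⟨s', t', h1, h2, h4, h5⟩ := k s
      exact ⟨s', t', h1, h2, h4, fun p hp e2 => h5 p hp (e2.elim id fun e2 =>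
        by_contra fun e3 => e ⟨e1, e2 ▸ hp, fun e4 => e3 (e2.trans e4.symm)⟩)⟩
    · obtain ⟨s', t', h1, h2, h4, h5⟩ := k t
      exact ⟨s', t', h1, h2, h4, fun p hp e2 => h5 p hp (e2.resolve_left fun e2 => e1 (e2 ▸ hp))⟩
  haveI := Fact.mk h1
  haveI := Fact.mk h2
  exact h.two h4 (fun p hp e => h5 p hp (or_iff_not_imp_left.2 (h3 p hp e))) (hu _ h1) (hu _ h2)

end MC

end Cfsg.Agent.Sg
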