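/-
Reduction of the solvable signalizer functor theorem to a minimal counterexample, and the case
where Glauberman's `ZJ` theorem applies.
-/
import Cfsg.Agent.Lib.SSF.Four

set_option autoImplicit false
set_option linter.unusedSectionVars false
set_option linter.unusedVariables false
set_option linter.style.haveILetI false
set_option linter.unusedSimpArgs false

namespace Cfsg.Agent.Sg

open Subgroup Cfsg.Agent.Transfer Cfsg.Agent.MS
open _root_.Cfsg.Agent.Comp (SSF InFam MaxQ)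
open scoped commutatorElement

universe u
variable {G : Type u} [Group G] [Finite G]
variable {A B D E H K L M N P Q R S T U V W X Y Z : Subgroup G} {p q r s t v w : ℕ} {a b c : G}
variable {θ : G → Subgroup G} [hr : Fact r.Prime]

theorem ZJ_nn5 [Fact p.Prime] (hs : Group.IsSolvable H) (h5 : 5 ≤ p) (hS : IsSyl p S H)
    (h0 : O {p}ᶜ H = ⊥) : H ≤ NN (ZJ S) := by
  obtain ⟨T, rfl⟩ := hS.exists_sylow_map
  rw [ZJ, ← Transfer.map_ZJ (by rw [ker_subtype, inf_bot_eq]), ← Comp.normal_iff_map_subtype]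
  exact Transfer.ZJ_normal (by omega) (.inr rfl) (Comp.charP_iff_subtype.1 (BG.inf_Ct_Op_le hs
    (O1c_eq (p := p) H ▸ h0))) (fun P _ hP => stableOn_of_psol h5 (psol_subtype
      (Comp.pSol_of_isSolvable hs)) P hP) T

theorem MC.zj_uniq [Fact s.Prime] (h : MC r A θ)
    (hz : ∀ H S, InFam r A θ H → IsSyl s S H → O {s}ᶜ H = ⊥ → H ≤ NN (ZJ S))
    (hM : CM r A θ s M) (hN : CM r A θ s N) : M = N := by
  obtain ⟨S, -, hS⟩ := Comp.exists_maxQ_ge (q := s) (Comp.InFam.bot (p := r) (A := A) (θ := θ))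
    IsPGroup.of_bot
  have k : ∀ M, CM r A θ s M → M ≤ NN (ZJ S) ∧ Un r A θ (ZJ S) M := fun M hM => by
    have h1 := h.syl_inf hS hM.mx.fam (nn_of_le hM.C)
    have h2 := hz M _ hM.mx.fam h1 hM.ch
    have h3 := h.un hM.mx ((ZJ_le _).trans inf_le_right) h2
      (nn_ZJ (fam_inf hS.fam hM.mx.fam.norm).norm)
      (ZJ_ne_bot (.inr rfl) h1.pgroup fun e => h.cm_O hM (le_bot_iff.1 (e ▸ O_le_syl h1)))
    have h4 : S ⊓ M = S := by
      by_contra e
      exact (nil_lt_nn (nil_of_pg hS.isP) (lt_of_le_of_ne inf_le_left e)).not_ge (le_inf inf_le_left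
        (h3 _ (fam_inf hS.fam (nn_nn (fam_inf hS.fam hM.mx.fam.norm).norm)) (nn_ZJ inf_le_right)))
    rw [h4] at h2 h3
    exact ⟨h2, h3⟩
  exact h.mx_eq hM.mx hN.mx.fam (k N hN).2 (k M hM).1

theorem MC.uniq5 [Fact s.Prime] (h : MC r A θ) (h5 : 5 ≤ s) (hM : CM r A θ s M) (hN : CM r A θ s N) :
    M = N := h.zj_uniq (fun H S hH hS h0 => ZJ_nn5 hH.solv h5 hS h0) hM hN

theorem MC.false_two {θ : G → Subgroup G} (h : MC 2 A θ) : False := by
  have k : ∀ s : ℕ, s.Prime → ∀ M N, CM 2 A θ s M → CM 2 A θ s N → M = N := fun s hs M N hM hN =>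
    haveI := Fact.mk hs
    h.zj_uniq (fun H S hH hS h0 => ZJ_nn hH.solv (Nat.coprime_two_right.1 hH.cop) hS h0) hM hN
  exact h.false_of (fun s hs M N hM hN _ _ => k s hs M N hM hN) fun s hs _ => k s hs

/-! ### the induction -/

theorem sol_pre {Q : Type u} [Group Q] [Finite Q] {f : M →* Q} (q : QM N M f) {X : Subgroup Q}
    (hN : Group.IsSolvable N) (h1 : Group.IsSolvable X) : Group.IsSolvable (pre f X) := by
  refine Comp.isSolvable_map _ (Comp.isSolvable_of_map f ?_ ?_)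
  · rwa [map_comap_eq_self_of_surjective q.surj]
  · exact sol_mono (Solv.isSolvable_subgroupOf hN M) (inf_le_right.trans q.ker.le)

def ms (A : Subgroup G) (θ : G → Subgroup G) : Set (G × G) := {z | z.1 ∈ A ∧ z.1 ≠ 1 ∧ z.2 ∈ θ z.1}

theorem cp_quo (h : SSF r A θ) (h3 : #A = r ^ 3) (hU : InFam r A θ U) (h0 : U ≠ ⊥)
    (h1 : ∀ a ∈ A, a ≠ 1 → θ a ≤ NN U)
    (ih : ∀ (Q : Type u) [Group Q] [Finite Q] (A' : Subgroup Q) (θ' : Q → Subgroup Q),
      (ms A' θ').ncard < (ms A θ).ncard → SSF r A' θ' → #A' = r ^ 3 → Cp r A' θ') : Cp r A θ := by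
  classical
  obtain ⟨Q, _, _, f, q⟩ := exists_qm (le_nn U) (le_rfl (a := NN U))
  have hA : A ≤ NN U := hU.norm
  have hd : U ⊓ A = ⊥ := inf_of_coprime (hU.coprime h.elem le_rfl).symm
  have inj : ∀ (a) (ha : a ∈ A) (b) (hb : b ∈ A), f ⟨a, hA ha⟩ = f ⟨b, hA hb⟩ → a = b :=
    fun a ha b hb e => by
      have : f ⟨a⁻¹ * b, hA (mul_mem (inv_mem ha) hb)⟩ = 1 := by
        rw [show (⟨a⁻¹ * b, hA (mul_mem (inv_mem ha) hb)⟩ : NN U) = (⟨a, hA ha⟩)⁻¹ * ⟨b, hA hb⟩ from rfl,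
          map_mul, map_inv, e, inv_mul_cancel]
      exact inv_mul_eq_one.1 (eq_one_of_inf hd ((q.eq_one_iff _).1 this) (mul_mem (inv_mem ha) hb))
  let θ' : Q → Subgroup Q := fun y => ⨆ a : {a : A // f ⟨a, hA a.2⟩ = y}, im f (θ a.1)
  have t1 : ∀ (a) (ha : a ∈ A), θ' (f ⟨a, hA ha⟩) = im f (θ a) := fun a ha =>
    le_antisymm (iSup_le fun b => (congrArg (fun x => im f (θ x)) (inj _ b.1.2 _ ha b.2)).le)
      (le_iSup (fun b : {b : A // f ⟨b, hA b.2⟩ = f ⟨a, hA ha⟩} => im f (θ b.1)) ⟨⟨a, ha⟩, rfl⟩)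
  have t2 : ∀ y ∈ im f A, y ≠ 1 → ∃ (a : G) (ha : a ∈ A), a ≠ 1 ∧ y = f ⟨a, hA ha⟩ := by
    rintro _ ⟨⟨a, h2⟩, ha, rfl⟩ h4
    exact ⟨a, ha, fun e => h4 (by subst e; exact map_one f), rfl⟩
  have t3 : ∀ (a) (ha : a ∈ A), a ≠ 1 → f ⟨a, hA ha⟩ ≠ 1 := fun a ha h2 e =>
    h2 (eq_one_of_inf hd ((q.eq_one_iff _).1 e) ha)
  have t4 : ∀ (a) (ha : a ∈ A), C1 (f ⟨a, hA ha⟩) = CC (im f (zpowers a)) := fun a ha => by
    rw [im_zpowers (hA ha), cc_zpowers]
  have el := q.el_im (⟨le_rfl, h.elem, h3⟩ : El r 3 A A) hA hd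
  have h5 : SSF r (im f A) θ' := by
    refine ⟨el.elem, fun y hy e => ?_, fun y hy e => ?_, fun y hy e => ?_, fun y hy e z hz e' => ?_,
      fun y hy e => ?_⟩ <;> obtain ⟨a, ha, h2, rfl⟩ := t2 y hy e <;> rw [t1 a ha]
    · rw [t4 a ha]
      exact im_cc (h1 a ha h2) (zpowers_le.2 (hA ha)) (cc_zpowers a ▸ h.le a ha h2)
    · exact (h.cop a ha h2).coprime_dvd_left (card_im_dvd (h1 a ha h2))
    · exact im_nn hA (h1 a ha h2) (h.norm a ha h2)
    · obtain ⟨b, hb, h4, rfl⟩ := t2 z hz e'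
      have hf := h.sup hU (h.inFam ha h2) (h1 a ha h2)
      rw [t1 b hb, t4 b hb, ← q.im_sup_N (h1 a ha h2), ← q.im_inf_cc (sup_le (le_nn U) (h1 a ha h2))
        (zpowers_le.2 (hA hb)) le_sup_left ((zpowers_le.2 hb).trans hf.norm)
        (hU.coprime h.elem (zpowers_le.2 hb)) hU.solv, cc_zpowers]
      exact im_mono (hf.le b hb h4)
    · exact im_sol (h.solv a ha h2) (h1 a ha h2)
  let φ : G → Q := fun x => if hx : x ∈ NN U then f ⟨x, hx⟩ else 1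
  have t5 : ∀ (x) (hx : x ∈ NN U), φ x = f ⟨x, hx⟩ := fun x hx => dif_pos hx
  have h6 : (ms (im f A) θ').ncard < (ms A θ).ncard := by
    have k1 : ms (im f A) θ' ⊆ Prod.map φ φ '' ms A θ := by
      rintro ⟨y, z⟩ ⟨k1, k2, k3⟩
      obtain ⟨a, ha, h2, rfl⟩ := t2 y k1 k2
      simp only [t1 a ha] at k3
      obtain ⟨⟨x, h4⟩, hx, rfl⟩ := k3
      exact ⟨(a, x), ⟨ha, h2, hx⟩, Prod.ext (t5 a _) (t5 x _)⟩
    refine (Set.ncard_le_ncard k1).trans_lt (lt_of_le_of_ne (Set.ncard_image_le) fun e => ?_)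
    have k2 := Set.injOn_of_ncard_image_eq e
    refine h0 (le_bot_iff.1 (h.le_of_forall ((Nat.pow_le_pow_right hr.out.pos (by norm_num)).trans h3.ge)
      hU fun a ha h2 x hx => ?_))
    exact congrArg Prod.snd (k2 (x₁ := (a, x)) (x₂ := (a, 1)) ⟨ha, h2, hx.2⟩ ⟨ha, h2, one_mem _⟩
      (Prod.ext rfl (by
        show φ x = φ 1
        rw [t5 x (le_nn U hx.1), t5 1 (one_mem _), (q.eq_one_iff _).2 hx.1]
        exact (map_one f).symm)))
  obtain ⟨K, hK, h7⟩ := ih Q _ θ' h6 h5 el.card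
  refine ⟨pre f K, ⟨?_, ?_, q.nn_pre hA hK.norm, fun a ha h2 => ?_⟩, fun a ha h2 =>
    (le_pre_iff (h1 a ha h2)).2 (t1 a ha ▸ h7 _ (mem_im_of ha _) (t3 a ha h2))⟩
  · exact sol_pre q hU.solv hK.solv
  · exact pi_compl_iff_coprime.1 (q.pi_pre (fam_pi hU) (fam_pi hK))
  · refine (le_inf ((q.im_le_iff (inf_le_left.trans (pre_le _ _)) (h1 a ha h2)).1 ?_) inf_le_right).trans
      ((h.sup hU (h.inFam ha h2) (h1 a ha h2)).le a ha h2)
    refine le_trans (le_inf ((im_mono inf_le_left).trans (q.im_pre K).le) ?_)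
      (t1 a ha ▸ hK.le _ (mem_im_of ha _) (t3 a ha h2))
    rw [t4 a ha]
    exact im_cc (inf_le_left.trans (pre_le _ _)) (zpowers_le.2 (hA ha)) (cc_zpowers a ▸ inf_le_right)

theorem cp_three
    (hyp : ∀ (G : Type u) [Group G] [Finite G] (A : Subgroup G) (θ : G → Subgroup G), ¬ MC r A θ)
    (h : SSF r A θ) (h3 : #A = r ^ 3) : Cp r A θ := by
  induction hn : (ms A θ).ncard using Nat.strong_induction_on generalizing G with
  | _ n ih =>
  subst hn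
  by_contra e
  refine hyp G A θ ⟨h, h3, fun θ' h1 h2 ⟨a, ha, h4, h5⟩ => ih _ (Set.ncard_lt_ncard ⟨fun z hz =>
    ⟨hz.1, hz.2.1, h2 _ hz.1 hz.2.1 hz.2.2⟩, fun h6 => h5 fun x hx =>
      (h6 (show (a, x) ∈ ms A θ from ⟨ha, h4, hx⟩)).2.2⟩) h1 h3 rfl, fun U hU h0 => ?_, e⟩
  by_contra! h1
  exact e (cp_quo h h3 hU h0 h1 fun Q _ _ A' θ' h2 h4 h5 => ih _ h2 h4 h5 rfl)

theorem cp_of
    (hyp : ∀ (G : Type u) [Group G] [Finite G] (A : Subgroup G) (θ : G → Subgroup G), ¬ MC r A θ)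
    (h : SSF r A θ) (h3 : r ^ 3 ≤ #A) : InFam r A θ (signalizerClosure A θ) := by
  have k : ∀ B, El r 3 B A → InFam r B θ (signalizerClosure A θ) := fun B hB => by
    have h1 : SSF r B θ := ⟨hB.elem, fun a ha => h.le a (hB.le ha), fun a ha => h.cop a (hB.le ha),
      fun a ha h0 => hB.le.trans (h.norm a (hB.le ha) h0),
      fun a ha h0 b hb => h.bal a (hB.le ha) h0 b (hB.le hb), fun a ha => h.solv a (hB.le ha)⟩
    obtain ⟨K, hK, h2⟩ := cp_three hyp h1 hB.card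
    refine hK.of_le (iSup_le fun a => cop_gen hB.ab hB.not_cyc (hB.le.trans (h.norm a a.2.1 a.2.2))
      ((h.inFam a.2.1 a.2.2).coprime h.elem hB.le) fun b hb h0 =>
        (h.bal a a.2.1 a.2.2 b (hB.le hb) h0).trans (h2 b hb h0))
      (Comp.le_normalizer_iSup fun a => hB.le.trans (h.norm a a.2.1 a.2.2))
  obtain ⟨B, hB⟩ := rk_of_elem h.elem le_rfl h3
  refine ⟨(k B hB).solv, (k B hB).cop, Comp.le_normalizer_iSup fun a => h.norm a a.2.1 a.2.2,
    fun a ha h0 => ?_⟩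
  obtain ⟨n, hn⟩ := elem_exists_el h.elem
  obtain ⟨D, hD, h1⟩ := elem_sub h.elem (zpowers_le.2 ha) (k := 1) (n := 3) 
    (by rw [hn.card_zpowers ha h0, pow_one]) (by norm_num) h3
  exact (k D hD).le a (h1 (mem_zpowers a)) h0

/-- the solvable signalizer functor theorem for the prime `2` -/
theorem ssft_two {θ : G → Subgroup G} (h : SSF 2 A θ) (h3 : 2 ^ 3 ≤ #A) :
    InFam 2 A θ (signalizerClosure A θ) := cp_of (fun _ _ _ _ _ h => h.false_two) h h3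

end Cfsg.Agent.Sg
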