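/-
Applications of the solvable signalizer functor theorem.
-/
import Cfsg.Agent.Lib.SSF.Main
import Cfsg.Agent.Lib.FT.Final

set_option autoImplicit false
set_option linter.unusedSectionVars false
set_option linter.unusedVariables false
set_option linter.style.haveILetI false
set_option linter.unusedSimpArgs false

namespace Cfsg.Agent.Sg

open Subgroup Cfsg.Agent.Transfer Cfsg.Agent.MS
open _root_.Cfsg.Agent.Comp (SSF InFam MaxQ)
open scoped commutatorElement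

universe u
variable {G : Type u} [Group G] [Finite G]
variable {A B D E H K L M N P Q R S T U V W X Y Z : Subgroup G} {p q r s t v w : ℕ} {a b c g : G}
variable {θ : G → Subgroup G} [hp : Fact p.Prime]

theorem le_clo (ha : a ∈ A) (h0 : a ≠ 1) : θ a ≤ signalizerClosure A θ :=
  le_iSup (fun a : {a : G // a ∈ A ∧ a ≠ 1} => θ a) ⟨a, ha, h0⟩

theorem clo_mono (h : B ≤ A) : signalizerClosure B θ ≤ signalizerClosure A θ :=
  iSup_le fun a => le_clo (h a.2.1) a.2.2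

theorem clo_eq (h : SSF p A θ) (hB : B ≤ A) (h2 : p ^ 2 ≤ #B) :
    signalizerClosure B θ = signalizerClosure A θ :=
  le_antisymm (clo_mono hB) (iSup_le fun a => Comp.le_of_forall_centralizer
    (Comp.IsElementaryAbelian.of_le h.elem hB) h2 (hB.trans (h.norm a a.2.1 a.2.2))
    (h.cop a a.2.1 a.2.2) fun b hb h0 => (h.bal a a.2.1 a.2.2 b (hB hb) h0).trans (le_clo hb h0))

theorem conj_ne_one (h : a ≠ 1) (g : G) : g * a * g⁻¹ ≠ 1 := by simpa using h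

theorem cj_clo_le (h : ∀ a ∈ A, a ≠ 1 → cj g (θ a) ≤ θ (g * a * g⁻¹)) :
    cj g (signalizerClosure A θ) ≤ signalizerClosure (cj g A) θ := by
  rw [signalizerClosure, cj, Subgroup.map_iSup]
  exact iSup_le fun a => (h a a.2.1 a.2.2).trans (le_clo (conj_mem_cj a.2.1) (conj_ne_one a.2.2 g))

theorem nn_clo (h : ∀ a ∈ A, a ≠ 1 → ∀ g, cj g (θ a) ≤ θ (g * a * g⁻¹)) :
    NN A ≤ NN (signalizerClosure A θ) := fun g hg =>
  mem_normalizer_of_cj_le ((cj_clo_le fun a h1 h2 => h a h1 h2 g).trans (by rw [cj_nn hg]))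

theorem cj_OC (π : Set ℕ) (g a : G) : cj g (O π (C1 a)) = O π (C1 (g * a * g⁻¹)) := by
  rw [cj_O, cj_centralizer_singleton]

theorem sol_O2 (H : Subgroup G) : Group.IsSolvable (O {2}ᶜ H) :=
  PF.odd_solvable (Nat.coprime_two_right.1 (pi_compl_iff_coprime.1 (O_pi _ H)))

theorem ssf_OC (hA : IsElementaryAbelian p A) (hs : ∀ a ∈ A, a ≠ 1 → Group.IsSolvable (O {p}ᶜ (C1 a)))
    (hb : ∀ a ∈ A, a ≠ 1 → ∀ b ∈ A, b ≠ 1 → O {p}ᶜ (C1 a) ⊓ C1 b ≤ O {p}ᶜ (C1 b)) :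
    SSF p A fun a => O {p}ᶜ (C1 a) :=
  ⟨hA, fun a _ _ => O_le _ _, fun a _ _ => pi_compl_iff_coprime.1 (O_pi _ _),
    fun a ha _ => nn_O (nn_C1 (Comp.IsElementaryAbelian.le_centralizer_singleton hA ha)), hb, hs⟩

theorem O_C1_le (h : Comp.PLay p M = ⊥) (h1 : a ∈ M) (h2 : IsPGroup p (zpowers a)) :
    O {p}ᶜ (M ⊓ C1 a) ≤ O {p}ᶜ M := by
  rw [O1c_eq, O1c_eq]; exact Comp.Opp_inf_centralizer_singleton_le h h1 h2

theorem bal_of_PLay (h : Comp.PLay p (C1 b) = ⊥) (h1 : a ∈ C1 b) (h2 : IsPGroup p (zpowers a)) :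
    O {p}ᶜ (C1 a) ⊓ C1 b ≤ O {p}ᶜ (C1 b) := by
  refine le_trans ?_ (O_C1_le h h1 h2)
  exact (le_inf inf_le_left (le_inf inf_le_right (inf_le_left.trans (O_le _ _)))).trans
    (O_inf_le inf_le_right)

theorem bal_inv {x y z : G} (hz : Comp.CharP 2 (C1 z)) (hz2 : z * z = 1) (hE : Comp.Lay (C1 y) = ⊥)
    (hx : IsPGroup 2 (zpowers x)) (hy : IsPGroup 2 (zpowers y)) (h1 : x ∈ C1 y) (h2 : x ∈ C1 z)
    (h3 : y ∈ C1 z) : O {2}ᶜ (C1 x) ⊓ C1 y ≤ O {2}ᶜ (C1 y) := by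
  have k : ∀ x ∈ C1 z, IsPGroup 2 (zpowers x) → ∀ k ∈ O {2}ᶜ (C1 x), z * k * z⁻¹ = k⁻¹ :=
    fun x h hx k hk => by
      refine Solv.inverts_of_fpf (nn_O (le_nn _) (mem_C1_comm.1 h)) (le_bot_iff.1 ?_) hz2 hk
      have e := (hz.inf_centralizer hx (zpowers_le.2 h)).Opp_eq_bot
      rw [← O1c_eq, cc_zpowers] at e
      exact e ▸ (le_inf inf_le_left (le_inf inf_le_right (inf_le_left.trans (O_le _ _)))).trans
        (O_inf_le inf_le_right)
  set N := C1 y ⊓ CC (O {2}ᶜ (C1 y)) with hN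
  have n1 : C1 y ≤ NN N := by nrm
  have n2 : O {2}ᶜ (C1 x) ⊓ C1 y ≤ N := fun d hd => by
    refine ⟨hd.2, ?_⟩
    have e : d ^ 2 ∈ CC (O {2}ᶜ (C1 y)) := mem_CC.2 fun o ho => by
      have e1 := k y h3 hy o ho
      have e2 := k y h3 hy _ ((nn_O (le_nn _) hd.2 o).1 ho)
      have e3 := k x h2 hx d hd.1
      have e4 : d⁻¹ * o⁻¹ * d = d * o⁻¹ * d⁻¹ := by
        calc d⁻¹ * o⁻¹ * d = (z * d * z⁻¹) * (z * o * z⁻¹) * (z * d * z⁻¹)⁻¹ := by rw [e1, e3, inv_inv]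
          _ = z * (d * o * d⁻¹) * z⁻¹ := by group
          _ = _ := by rw [e2]; group
      calc o * d ^ 2 = o * d * (d * o⁻¹ * d⁻¹) * d * o := by rw [sq]; group
        _ = _ := by rw [← e4, sq]; group
    obtain ⟨m, hm⟩ := exists_pow_eq_self_of_coprime (x := d) (n := 2)
      ((pi_compl_iff_coprime.1 (O_pi _ _)).coprime_dvd_left (orderOf_dvd hd.1)).symm
    exact hm ▸ pow_mem e m
  have n3 : N ⊔ zpowers x ≤ C1 y := sup_le inf_le_left (zpowers_le.2 h1)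
  have n4 : zpowers x ≤ NN N := (zpowers_le.2 h1).trans n1
  have n5 : O {2}ᶜ (N ⊔ zpowers x) ≤ O {2}ᶜ (C1 y) := by
    refine (le_O ?_ (le_sup_left.trans (by nrm)) (O_pi _ _)).trans (O_le_O inf_le_left n1)
    obtain ⟨Q, _, _, f, q⟩ := exists_qm (M := N ⊔ zpowers x) le_sup_left (n3.trans n1)
    refine (q.im_eq_bot (O_le _ _)).1 (eq_bot_of_le (pg_inf (im_pg (f := f) hx)
      ((O_pi {2}ᶜ _).im (O_le _ _)) (by simp)) ?_ le_rfl)
    rw [← q.im_sup_N le_sup_right]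
    exact im_mono (O_le _ _)
  have n6 : Comp.PLay 2 (N ⊔ zpowers x) = ⊥ := le_bot_iff.1 (Comp.PLay_le_iff.2 fun K hK => by
    have k1 : K ≤ N := hK.pqs.perfect.ge.trans ((der_mono hK.le).trans ((der_sup_le n4).trans
      (by rw [ab_iff_der.1 (ab_of_cyc (cyc_zpowers x)), sup_bot_eq])))
    have k2 := (hK.of_le k1 le_sup_left).trans (Comp.SubnIn.of_normalizer inf_le_left n1)
    refine hE ▸ (k2.compIn_iff.2 ?_).le_Lay
    rw [k2.Opp_eq, ← O1c_eq]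
    exact inf_le_left.trans (cc_symm (k1.trans inf_le_right)))
  refine le_trans ?_ ((O_C1_le n6 (le_sup_right (a := N) (mem_zpowers x)) hx).trans n5)
  exact (le_inf inf_le_left (le_inf (n2.trans le_sup_left) (inf_le_left.trans (O_le _ _)))).trans
    (O_inf_le inf_le_right)

/-- an involution normalizing an elementary abelian group of order at least eight centralizes a
four-group in it -/
theorem four_le_of_inv {x : G} (hE : IsElementaryAbelian 2 E) (h8 : 2 ^ 3 ≤ #E) (hx : x ∈ NN E)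
    (h2 : x * x = 1) : 2 ^ 2 ≤ #(E ⊓ C1 x : Subgroup G) := by
  have h1 : (C1 x).relIndex E ≤ #(E ⊓ C1 x : Subgroup G) := index_C1_le fun g hg => by
    have e1 : x * g⁻¹ * x⁻¹ ∈ E := (hx _).1 (inv_mem hg)
    have e2 : g * x * g⁻¹ * x⁻¹ ∈ E := by simpa only [mul_assoc] using mul_mem hg e1
    refine ⟨e2, mem_C1.2 ?_⟩
    have e3 := hE.2 _ e2
    rw [sq, mul_eq_one_iff_eq_inv] at e3
    have e4 : x⁻¹ = x := inv_eq_of_mul_eq_one_right h2
    calc g * x * g⁻¹ * x⁻¹ * x = x * (x * x)⁻¹ * x * (g * x * g⁻¹) := by group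
      _ = x * (x * g * x⁻¹ * g⁻¹) := by rw [h2, e4]; group
      _ = _ := by rw [e3]; group
  obtain ⟨n, hn⟩ := elem_exists_el (Comp.IsElementaryAbelian.of_le hE (inf_le_left (b := C1 x)))
  have h3 := card_inf_mul_relIndex (C1 x) E
  rw [inf_comm] at h3
  rw [hn.card] at h1 h3 ⊢
  refine Nat.pow_le_pow_right two_pos (by_contra fun e => ?_)
  have : 2 ^ n ≤ 2 ^ 1 := Nat.pow_le_pow_right two_pos (by omega)
  nlinarith

theorem exists_el_clo {x : G} (hE : IsElementaryAbelian 2 E) (h8 : 2 ^ 3 ≤ #E) (hx : x ∈ NN E)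
    (h2 : x * x = 1) (h : ∀ D : Subgroup G, IsElementaryAbelian 2 D → SSF 2 D θ) :
    ∃ D, IsElementaryAbelian 2 D ∧ 2 ^ 3 ≤ #D ∧ x ∈ D ∧
      signalizerClosure D θ = signalizerClosure E θ := by
  by_cases e : x ∈ E
  · exact ⟨E, hE, h8, e, rfl⟩
  have h1 := four_le_of_inv hE h8 hx h2
  have h3 := Comp.IsElementaryAbelian.sup (Comp.IsElementaryAbelian.of_le hE (inf_le_left (b := C1 x)))
    (Comp.isElementaryAbelian_zpowers (x := x) (by rw [sq, h2])) (cc_zpowers x ▸ inf_le_right)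
  refine ⟨_, h3, ?_, le_sup_right (a := E ⊓ C1 x) (mem_zpowers x),
    (clo_eq (h _ h3) le_sup_left h1).symm.trans (clo_eq (h _ hE) inf_le_left h1)⟩
  obtain ⟨n, hn⟩ := elem_exists_el h3
  have h4 := card_lt_of_lt (lt_of_le_of_ne (le_sup_left (a := E ⊓ C1 x) (b := zpowers x)) fun e1 =>
    e (inf_le_left (b := C1 x) (e1 ▸ le_sup_right (a := E ⊓ C1 x) (mem_zpowers x))))
  rw [hn.card] at h4 ⊢
  exact Nat.pow_le_pow_right two_pos ((Nat.pow_lt_pow_iff_right one_lt_two).1 (h1.trans_lt h4))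

end Cfsg.Agent.Sg
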